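import Cfsg.Agent.L.Fz0

/-!
# The 276 involutions are the pairs of a 24-set
-/

set_option autoImplicit false

namespace H22.FzT
open L.Fz

universe u
variable {G : Type u} [Group G] {A M B : Subgroup G} {D : Set G} {z t s r w a b : G}

/-- the clique through `t` and `s` -/
def P (D : Set G) (t s : G) : Set G := {r | r = t ∨ r = s ∨ (r ∈ D ∧ r * t ∈ D ∧ s * r ∈ D ∧ r ≠ s * t)}

/-- the points -/
def Pt (D : Set G) : Type u := {X : Set G // ∃ t ∈ D, ∃ s ∈ D, s * t ∈ D ∧ X = P D t s}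

/-- the facts used -/
structure H (D : Set G) : Prop where
  x : Xb D
  sq : ∀ t ∈ D, t * t = 1
  cm : ∀ t ∈ D, ∀ s ∈ D, s * t = t * s
  n1 : (1 : G) ∉ D

namespace H
variable (h : H D)
include h

theorem tt (ht : t ∈ D) (x : G) : x * t * t = x := by rw [mul_assoc, h.sq t ht, mul_one]

theorem sy (ht : t ∈ D) (hs : s ∈ D) : P D t s = P D s t := Set.ext fun r => by
  simp only [P, Set.mem_setOf_eq, h.cm t ht s hs]
  rw [or_left_comm]
  refine or_congr_right (or_congr_right (and_congr_right fun hr => ?_))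
  rw [h.cm t ht r hr, h.cm r hr s hs, and_left_comm]

omit h in
theorem sub (ht : t ∈ D) (hs : s ∈ D) (hr : r ∈ P D t s) : r ∈ D := by
  rcases hr with rfl | rfl | hr
  exacts [ht, hs, hr.1]

theorem le (ht : t ∈ D) (hs : s ∈ D) (st : s * t ∈ D) (hr : r ∈ D) (rt : r * t ∈ D) (sr : s * r ∈ D) (n : r ≠ s * t) :
    P D t s ⊆ P D t r := by
  have rs : r ≠ s := fun e => h.n1 (by rwa [e, h.sq s hs] at sr)
  rintro w (rfl | rfl | ⟨hw, wt, sw, m⟩)
  · exact .inl rfl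
  · exact .inr (.inr ⟨hs, st, h.cm _ hr _ hs ▸ sr, fun e => n (by rw [e, h.tt ht])⟩)
  · by_cases e : w = r
    · exact .inr (.inl e)
    refine .inr (.inr ⟨hw, wt, h.x.tr t ht s hs r hr w hw st rt wt n m (Ne.symm e) sr sw, fun q => ?_⟩)
    exact (h.x.one t ht s hs r hr st rt rs n).1 sr (by rwa [q, ← mul_assoc] at sw)

theorem eq1 (ht : t ∈ D) (hs : s ∈ D) (st : s * t ∈ D) (hr : r ∈ P D t s) (n : r ≠ t) : r * t ∈ D ∧ P D t r = P D t s := by
  rcases hr with rfl | rfl | ⟨hr, rt, sr, m⟩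
  · exact absurd rfl n
  · exact ⟨st, rfl⟩
  · exact ⟨rt, (h.le ht hr rt hs st (h.cm _ hr _ hs ▸ sr) fun e => m (by rw [e, h.tt ht])).antisymm
      (h.le ht hs st hr rt sr m)⟩

theorem eq2 (X : Pt D) (ha : a ∈ X.1) (hb : b ∈ X.1) (n : b ≠ a) : b * a ∈ D ∧ P D a b = X.1 := by
  obtain ⟨_, t, ht, s, hs, st, rfl⟩ := X
  by_cases e : a = t
  · subst e; exact h.eq1 ht hs st hb n
  obtain ⟨i, j⟩ := h.eq1 ht hs st ha e
  have ha' := sub ht hs ha
  rw [h.sy ht ha'] at j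
  change b * a ∈ D ∧ P D a b = P D t s
  change b ∈ P D t s at hb
  rw [← j] at hb ⊢
  exact h.eq1 ha' ht (h.cm _ ht _ ha' ▸ i) hb n

omit h in
theorem mD (X : Pt D) (ha : a ∈ X.1) : a ∈ D := by
  obtain ⟨_, t, ht, s, hs, st, rfl⟩ := X
  exact sub ht hs ha

theorem uq {X Y : Pt D} (n : X ≠ Y) (ha : a ∈ X.1) (ha' : a ∈ Y.1) (hb : b ∈ X.1) (hb' : b ∈ Y.1) : b = a :=
  by_contra fun e => n (Subtype.ext ((h.eq2 X ha hb e).2.symm.trans (h.eq2 Y ha' hb' e).2))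

theorem nm (ht : t ∈ D) (hs : s ∈ D) (st : s * t ∈ D) : s * t ∉ P D t s := by
  rintro (e | e | e)
  · exact h.n1 (by rwa [mul_eq_right.1 e] at hs)
  · exact h.n1 (by rwa [mul_eq_left.1 e] at ht)
  · exact e.2.2.2 rfl

theorem two (ht : t ∈ D) (hs : s ∈ D) (st : s * t ∈ D) (X : Pt D) (hX : t ∈ X.1) :
    X.1 = P D t s ∨ X.1 = P D t (s * t) := by
  obtain ⟨r, hr, n⟩ : ∃ r ∈ X.1, r ≠ t := by
    obtain ⟨_, a, ha, b, hb, ab, rfl⟩ := X
    by_cases e : a = t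
    · exact ⟨b, .inr (.inl rfl), fun q => h.n1 (by rwa [q, e, h.sq t ht] at ab)⟩
    · exact ⟨a, .inl rfl, e⟩
  obtain ⟨rt, e⟩ := h.eq2 X hX hr n
  have hr' := mD X hr
  have s' : s * t * t ∈ D := by rwa [h.tt ht]
  rw [← e]
  by_cases e1 : r = s
  · exact .inl (e1 ▸ rfl)
  by_cases e2 : r = s * t
  · exact .inr (e2 ▸ rfl)
  by_cases e3 : s * r ∈ D
  · exact .inl (h.eq1 ht hs st (.inr (.inr ⟨hr', rt, e3, e2⟩)) n).2
  refine .inr (h.eq1 ht st s' (.inr (.inr ⟨hr', rt, ?_, by rwa [h.tt ht]⟩)) n).2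
  rw [mul_assoc, ← h.cm t ht r hr', ← mul_assoc]
  exact by_contra fun q => e3 ((h.x.one t ht s hs r hr' st rt e1 e2).2 q)

theorem three (ht : t ∈ D) {X Y Z : Pt D} (hX : t ∈ X.1) (hY : t ∈ Y.1) (hZ : t ∈ Z.1) (n : X ≠ Y) : Z = X ∨ Z = Y := by
  obtain ⟨r, hr, m⟩ : ∃ r ∈ X.1, r ≠ t := by
    obtain ⟨_, a, ha, b, hb, ab, rfl⟩ := X
    by_cases e : a = t
    · exact ⟨b, .inr (.inl rfl), fun q => h.n1 (by rwa [q, e, h.sq t ht] at ab)⟩
    · exact ⟨a, .inl rfl, e⟩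
  obtain ⟨rt, e⟩ := h.eq2 X hX hr m
  have y := (h.two ht (mD X hr) rt Y hY).resolve_left fun q => n (Subtype.ext (e.symm.trans q.symm))
  exact (h.two ht (mD X hr) rt Z hZ).imp (fun q => Subtype.ext (q.trans e)) fun q => Subtype.ext (q.trans y.symm)

theorem c23 [Finite G] (nb : Nb B D z) (X : Pt D) : X.1.ncard = 23 := by
  obtain ⟨_, t, ht, s, hs, st, rfl⟩ := X
  have s' : s * t * t ∈ D := by rwa [h.tt ht]
  have n : (⟨P D t s, t, ht, s, hs, st, rfl⟩ : Pt D) ≠ ⟨P D t (s * t), t, ht, s * t, st, s', rfl⟩ := fun e =>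
    h.nm ht hs st ((congrArg Subtype.val e).ge (.inr (.inl rfl)))
  have u : (P D t s \ {t}) ∪ (P D t (s * t) \ {t}) = {r | r ∈ D ∧ r * t ∈ D} := by
    ext r
    refine ⟨?_, fun ⟨hr, rt⟩ => ?_⟩
    · rintro (⟨q, n⟩ | ⟨q, n⟩)
      exacts [⟨sub ht hs q, (h.eq1 ht hs st q n).1⟩, ⟨sub ht st q, (h.eq1 ht st s' q n).1⟩]
    · have m : r ≠ t := fun e => h.n1 (by rwa [e, h.sq t ht] at rt)
      exact (h.two ht hs st ⟨P D t r, t, ht, r, hr, rt, rfl⟩ (.inl rfl)).imp (fun e => ⟨e.le (.inr (.inl rfl)), m⟩)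
        fun e => ⟨e.le (.inr (.inl rfl)), m⟩
  have d : Disjoint (P D t s \ {t}) (P D t (s * t) \ {t}) := Set.disjoint_left.2 fun r a b =>
    a.2 (h.uq n (.inl rfl) (.inl rfl) a.1 b.1)
  have f : ∀ s ∈ D, s * t ∈ D → (P D t s \ {t}).ncard ≤ (P D t (s * t) \ {t}).ncard := fun s hs st =>
    Set.ncard_le_ncard_of_injOn (· * t) (fun r ⟨q, n⟩ => by
      have hr := sub ht hs q
      refine ⟨?_, fun e => h.n1 (by rwa [mul_eq_right.1 e] at hr)⟩
      rcases q with e | e | ⟨-, rt, sr, m⟩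
      · exact absurd e n
      · exact .inr (.inl (e ▸ rfl))
      · refine .inr (.inr ⟨rt, by rwa [h.tt ht], ?_, fun e => m (by rw [← h.tt ht r, e, h.tt ht])⟩)
        rwa [h.cm t ht r hr, ← mul_assoc, h.tt ht]) (fun _ _ _ _ e => mul_right_cancel e)
  have f1 := f s hs st
  have f2 := f _ st s'
  rw [h.tt ht] at f2
  have c := Set.ncard_union_eq d
  rw [u, nb.b t ht] at c
  have := Set.ncard_diff_singleton_add_one (s := P D t s) (a := t) (.inl rfl)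
  change (P D t s).ncard = 23
  omega

theorem ex2 [Finite G] (nb : Nb B D z) (ht : t ∈ D) : ∃ X Y : Pt D, X ≠ Y ∧ t ∈ X.1 ∧ t ∈ Y.1 := by
  obtain ⟨s, hs, st⟩ := Set.nonempty_of_ncard_ne_zero (s := {s | s ∈ D ∧ s * t ∈ D}) (by rw [nb.b t ht]; omega)
  exact ⟨⟨P D t s, t, ht, s, hs, st, rfl⟩, ⟨P D t (s * t), t, ht, s * t, st, by rwa [h.tt ht], rfl⟩, fun e =>
    h.nm ht hs st ((congrArg Subtype.val e).ge (.inr (.inl rfl))), .inl rfl, .inl rfl⟩

theorem c24 [Finite G] (nb : Nb B D z) : Nat.card (Pt D) = 24 := by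
  classical
  have : Finite (Pt D) := Subtype.finite
  have := Fintype.ofFinite (Pt D)
  have := Fintype.ofFinite G
  have := Finset.card_mul_eq_card_mul (s := (Finset.univ : Finset (Pt D))) (t := D.toFinset) (m := 23) (n := 2)
    (fun X t => t ∈ X.1) (fun X _ => by
      rw [← h.c23 nb X, Set.ncard_eq_toFinset_card']
      congr 1
      ext t
      simpa using mD X) fun t ht => by
      obtain ⟨X, Y, n, a, b⟩ := h.ex2 nb (Set.mem_toFinset.1 ht)
      refine Finset.card_eq_two.2 ⟨X, Y, n, Finset.ext fun Z => ?_⟩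
      simp only [Finset.mem_bipartiteBelow, Finset.mem_univ, true_and, Finset.mem_insert, Finset.mem_singleton]
      exact ⟨fun q => h.three (Set.mem_toFinset.1 ht) a b q n, by rintro (rfl | rfl) <;> assumption⟩
  rw [← Set.ncard_eq_toFinset_card', nb.d, Finset.card_univ, ← Nat.card_eq_fintype_card] at this
  omega

theorem meet [Finite G] (nb : Nb B D z) {X Y : Pt D} (n : X ≠ Y) : ∃ t, t ∈ X.1 ∧ t ∈ Y.1 := by
  have : Finite (Pt D) := Subtype.finite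
  have e : ∀ t : X.1, ∃ Z : {Z : Pt D // Z ≠ X}, t.1 ∈ Z.1.1 := fun t => by
    obtain ⟨U, W, m, a, b⟩ := h.ex2 nb (mD X t.2)
    by_cases q : U = X
    · exact ⟨⟨W, fun r => m (q.trans r.symm)⟩, b⟩
    · exact ⟨⟨U, q⟩, a⟩
  choose f hf using e
  have i : Function.Injective f := fun a b q => Subtype.ext (h.uq (f a).2 (q ▸ hf b) b.2 (hf a) a.2)
  obtain ⟨t, q⟩ := (i.bijective_of_nat_card_le (by
    have := Set.ncard_diff_singleton_add_one (s := Set.univ) (Set.mem_univ X)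
    rw [Set.ncard_univ, h.c24 nb, ← Set.compl_eq_univ_diff] at this
    rw [Nat.card_coe_set_eq, h.c23 nb]
    exact (show ({X}ᶜ : Set (Pt D)).ncard ≤ 23 by omega))).2 ⟨Y, n.symm⟩
  exact ⟨t, t.2, by simpa [q] using hf t⟩

end H

theorem tS : TStmt.{u} := by
  classical
  intro G _ _ A M B D z c nb x
  have h : H D := ⟨x, fun t ht => c.sq t (c.DA t ht).1, fun t ht s hs => by
    have a := (c.DA t ht).1
    have b := (c.DA s hs).1
    rw [← inv_eq_of_mul_eq_one_right (c.sq _ (mul_mem b a)), mul_inv_rev, inv_eq_of_mul_eq_one_right (c.sq _ a),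
      inv_eq_of_mul_eq_one_right (c.sq _ b)], fun q => (c.DA 1 q).2 rfl⟩
  obtain ⟨τ, τ1, τ2⟩ : ∃ τ : Pt D → Pt D → G, (∀ i, τ i i = 1) ∧ ∀ i j, i ≠ j → τ i j ∈ i.1 ∧ τ i j ∈ j.1 :=
    ⟨fun i j => if n : i = j then 1 else (h.meet nb n).choose, fun i => dif_pos rfl, fun i j n => by
      simp only [dif_neg n]; exact (h.meet nb n).choose_spec⟩
  have U : ∀ {i j t}, i ≠ j → t ∈ i.1 → t ∈ j.1 → τ i j = t := fun n a b => h.uq n a b (τ2 _ _ n).1 (τ2 _ _ n).2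
  have sy : ∀ i j, τ i j = τ j i := fun i j => by
    by_cases n : i = j
    · rw [n]
    · exact U n (τ2 _ _ (Ne.symm n)).2 (τ2 _ _ (Ne.symm n)).1
  have cD : ∀ (m : M) g, m.1 * g * m.1⁻¹ ∈ D ↔ g ∈ D := fun m g =>
    ⟨fun q => by simpa [mul_assoc] using c.Dc _ (inv_mem m.2) _ q, c.Dc _ m.2 g⟩
  letI : MulAction M (Pt D) :=
    { smul := fun m X => ⟨{g | m.1⁻¹ * g * m.1 ∈ X.1}, by
        obtain ⟨_, t, ht, s, hs, st, rfl⟩ := X
        refine ⟨_, c.Dc _ m.2 t ht, _, c.Dc _ m.2 s hs, by simpa [mul_assoc] using c.Dc _ m.2 _ st, Set.ext fun g => ?_⟩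
        obtain ⟨g, rfl⟩ := (MulAut.conj m.1).surjective g
        simp only [P, Set.mem_setOf_eq, MulAut.conj_apply, conj_mul, cD, ne_eq, mul_left_inj, mul_right_inj]
        simp only [mul_assoc, inv_mul_cancel_left, inv_mul_cancel, mul_one]⟩
      one_smul := fun X => Subtype.ext (Set.ext fun g => by change (1 : G)⁻¹ * g * 1 ∈ X.1 ↔ _; simp)
      mul_smul := fun m n X => Subtype.ext (Set.ext fun g => by
        change (m.1 * n.1)⁻¹ * g * (m.1 * n.1) ∈ X.1 ↔ n.1⁻¹ * (m.1⁻¹ * g * m.1) * n.1 ∈ X.1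
        simp [mul_assoc]) }
  have sm : ∀ (m : M) (X : Pt D) g, g ∈ X.1 → m.1 * g * m.1⁻¹ ∈ (m • X).1 := fun m X g q => by
    change m.1⁻¹ * _ * m.1 ∈ X.1
    simpa [mul_assoc] using q
  have hf : ∀ {i j k}, i ≠ j → j ≠ k → i ≠ k → τ j k * τ i j ∈ i.1 := fun {i j k} a b d => by
    have a1 := τ2 _ _ a
    have b1 := τ2 _ _ b
    obtain ⟨p, q⟩ := h.eq2 j a1.2 b1.1 fun e => (h.three (H.mD i a1.1) a1.1 a1.2 (e ▸ b1.2) a).elim d.symm b.symm
    exact ((h.two (H.mD i a1.1) (H.mD j b1.1) p i a1.1).resolve_left fun e => a (Subtype.ext (e.trans q))).ge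
      (.inr (.inl rfl))
  refine ⟨Pt D, τ, MulAction.toPermHom M (Pt D), h.c24 nb, τ1, fun i j k => ?_, sy, fun i j n => H.mD i (τ2 i j n).1,
    fun t ht => ?_, fun i j k l n e => ?_, fun i j k l a b d e f g q => ?_, fun m i j => ?_⟩
  · by_cases a : i = j
    · rw [a, τ1, one_mul]
    by_cases b : j = k
    · rw [b, τ1, mul_one]
    by_cases d : i = k
    · rw [← d, τ1, sy j i, h.sq _ (H.mD i (τ2 i j a).1)]
    refine (U d ?_ ?_).symm
    · rw [h.cm _ (H.mD j (τ2 j k b).1) _ (H.mD i (τ2 i j a).1)]; exact hf a b d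
    · rw [sy i j, sy j k]; exact hf (Ne.symm b) (Ne.symm a) (Ne.symm d)
  · obtain ⟨X, Y, n, a, b⟩ := h.ex2 nb ht
    exact ⟨X, Y, n, U n a b⟩
  · have a := τ2 i j n
    have m : k ≠ l := fun q => h.n1 (by rw [← τ1 k, show τ k k = τ k l by rw [q], ← e]; exact H.mD i a.1)
    have b := τ2 k l m
    rw [← e] at b
    rcases h.three (H.mD i a.1) b.1 b.2 a.1 m with p | p <;> rcases h.three (H.mD i a.1) b.1 b.2 a.2 m with q | q
    exacts [absurd (p.trans q.symm) n, .inl ⟨p, q⟩, .inr ⟨p, q⟩, absurd (p.trans q.symm) n]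
  · have a1 := τ2 i j a
    have g1 := τ2 k l g
    let X : Pt D := ⟨P D (τ k l) (τ i j), _, H.mD k g1.1, _, H.mD i a1.1, q, rfl⟩
    rcases h.three (H.mD i a1.1) a1.1 a1.2 (Z := X) (.inr (.inl rfl)) a with p | p <;>
      rcases h.three (H.mD k g1.1) g1.1 g1.2 (Z := X) (.inl rfl) g with r | r
    exacts [b (p.symm.trans r), d (p.symm.trans r), e (p.symm.trans r), f (p.symm.trans r)]
  · by_cases n : i = j
    · simp [n, τ1]
    · exact (U (fun q => n ((MulAction.toPermHom M (Pt D) m).injective q)) (sm m i _ (τ2 i j n).1)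
        (sm m j _ (τ2 i j n).2)).symm

end H22.FzT
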