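import Mathlib
import Cfsg.Agent.H06.HS1
import Cfsg.Agent.H29.FC2
import Cfsg.Agent.S0144

/-! General Hall–Higman–Shult core, part 1: the simple quotient (namespace `H22.HM`). -/

set_option autoImplicit false
open Cfsg BG Subgroup
open scoped commutatorElement
universe u
namespace H22.HM
open Cfsg.Agent.H06.FV Cfsg.Agent.H06.HS Cfsg.Agent.H29.FC

variable {Γ : Type u} [Group Γ] [Finite Γ] {p r : ℕ}

theorem third {K : Subgroup Γ} (hp : p.Prime) (h : ¬ Group.IsSolvable K) :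
    ∃ q : ℕ, q.Prime ∧ q ≠ 2 ∧ q ≠ p ∧ q ∣ Nat.card K := by
  by_contra e
  push Not at e
  obtain ⟨D, hD⟩ := sylow_exists Nat.prime_two K
  obtain ⟨a, ha⟩ := pg_card Nat.prime_two (hD.pg Nat.prime_two)
  have := Nat.eq_prime_pow_of_unique_prime_dvd (p := p) (relIndex_ne_zero D K) fun {d} hd k => by
    by_contra k2
    exact e d hd (fun k3 => hD.not_dvd' Nat.prime_two (k3 ▸ k)) k2 (k.trans (BG.relIndex_dvd_card _ _))
  exact h (Cfsg.Agent.S0144.result 2 p a _ Nat.prime_two hp (by rw [← card_mul_relIndex hD.le, ha, ← this]))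

theorem simple_of2 {G R : Subgroup Γ} (hp : p.Prime) (hr : (Nat.card R).Prime) (hRG : R ≤ N_(G))
    (hc : (Nat.card R).Coprime (Nat.card G))
    (hq : ∀ (X : Subgroup Γ) (q : ℕ), q.Prime → q ≠ 2 → q ≠ p → X ≤ G → R ≤ N_(X) → IsPGroup q X → X ≤ C_(R))
    (hmin : ∀ N ≤ G, G ≤ N_(N) → R ≤ N_(N) → N = ⊥ ∨ N = G) (hnil : ¬ Group.IsNilpotent G) :
    IsSimpleGroup G := by
  haveI : Nontrivial G := (nontrivial_iff_ne_bot G).2 fun e => hnil (e ▸ pg_nil hp pg_bot)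
  refine ⟨fun K0 hK0 => ?_⟩
  by_contra hne
  push Not at hne
  obtain ⟨K, hKK, hK⟩ := exists_minimal_le_of_wellFoundedLT (fun K : Subgroup Γ => K ≤ G ∧ G ≤ N_(K) ∧ K ≠ ⊥)
    (K0.map G.subtype) ⟨map_subtype_le _, H02.le_normalizer_map_subtype K0,
      fun h => hne.1 ((map_eq_bot_iff_of_injective _ G.subtype_injective).1 h)⟩
  obtain ⟨hKG, hGK, hK1⟩ := hK.prop
  have hKne : K ≠ G := by
    rintro rfl
    refine hne.2 (eq_top_iff.2 fun x _ => ?_)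
    obtain ⟨y, hy, h⟩ := hKK x.2
    exact (Subtype.ext h : y = x) ▸ hy
  have hs : ¬ Group.IsSolvable K := fun e => by
    rcases hmin _ (fit_le G) (le_norm_fit G) (norm_fit hRG) with h4 | h4
    · exact fit_ne_bot e hK1 (eq_bot_mono h4 (fit_le_of_norm hKG hGK))
    · exact hnil (h4 ▸ fit_nil G)
  obtain ⟨q, hq1, q2, qp, qK⟩ := third hp hs
  obtain ⟨S, hS, hRS⟩ := coprime_sylow_exists hq1
    (Or.inl (sol_of_abelian (abelian_of_cyclic (cyclic_of_prime hr)))) hRG hc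
  have h0 := (hS.inf_normal hKG hGK).ne_bot hq1 rfl qK
  have h1 : S ⊓ K ≤ C_(R) := inf_le_left.trans (hq S q hq1 q2 qp hS.le hRS (hS.pg hq1))
  refine (hmin K hKG hGK fun σ hσ => ?_).elim hK1 hKne
  have h2 : cj σ K ≤ G := cj_le_of_mem_norm hKG (hRG hσ)
  have h3 : G ≤ N_(cj σ K) := by
    rw [← cj_norm, ← cj_of_mem_norm (hRG hσ)]; exact cj_mono _ hGK
  have h4 : S ⊓ K ≤ cj σ K := by
    rw [← cj_of_mem_cent (cent_symm h1 hσ)]; exact cj_mono _ inf_le_right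
  exact mem_norm_of_le_cj ((hK.le_of_le ⟨inf_le_left.trans h2, norm_inf h3 hGK,
    ne_bot_mono h0 (le_inf h4 inf_le_right)⟩ inf_le_right).trans inf_le_left)

/-- the central extension case, inside `L R` -/
structure Pre2 (p r : ℕ) (L Z R₀ : Subgroup Γ) : Prop where
  pp : p.Prime
  p2 : p ≠ 2
  rp : r.Prime
  r2 : r ≠ 2
  pr : p ≠ r
  fer : ∃ n : ℕ, r = 2 ^ n + 1
  nL : L.Normal
  idx : L.index = r
  cR : Nat.card R₀ = r
  ZL : Z ≤ L
  Zc : Z ≤ center Γ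
  rL : ¬ r ∣ Nat.card L
  ncl : ¬ PCl p L
  mx : ∀ N, Z ≤ N → N ≤ L → L ≤ N_(N) → R₀ ≤ N_(N) → N = Z ∨ N = L
  inv1 : ∀ a ∈ Z, ∀ b ∈ Z, a ^ 2 = 1 → b ^ 2 = 1 → a ≠ 1 → b ≠ 1 → a = b
  nc : ∀ R : Subgroup Γ, Nat.card R = r → ¬ L ≤ C_(R)
  pc : ∀ R H : Subgroup Γ, Nat.card R = r → H < L → R ≤ N_(H) → PCl p ⁅H, R⁆
  q : ∀ (R X : Subgroup Γ) (q : ℕ), Nat.card R = r → q.Prime → q ≠ 2 → q ≠ p → X ≤ L → R ≤ N_(X) →
    IsPGroup q X → X ≤ C_(R)
  m3 : ∀ R E : Subgroup Γ, Nat.card R = r → E ≤ L → IsPGroup 2 E → ⁅E, R⁆ = E →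
    E ⊓ C_(E) = E ⊓ C_(R) ∧ ⁅E, E⁆ = E ⊓ C_(R) ∧ (∀ x ∈ E, x ^ 2 ∈ C_(R)) ∧ ∀ b ∈ E ⊓ C_(R), b ^ 2 = 1
  m4 : ∀ R F : Subgroup Γ, Nat.card R = r → F ≤ L → IsPGroup 2 F → ⁅F, R⁆ = F → F ≠ ⊥ → F ⊓ C_(R) ≤ Z →
    Nat.card ↥(F ⊓ C_(R)) = 2 ∧ C_(F) ≤ C_(R)
  m5 : ∀ (R F : Subgroup Γ) (a : Γ), Nat.card R = r → F ≤ L → IsPGroup 2 F → ⁅F, R⁆ = F → a ∈ L →
    IsPGroup p (zpowers a) → a ∈ C_(R) → a ∈ N_(F) → a ∈ C_(F ⊓ C_(R)) → a ∈ C_(F)

namespace Pre2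
variable {L Z R₀ : Subgroup Γ} (h : Pre2 p r L Z R₀) {Q : Type u} [Group Q] {f : Γ →* Q}
  (hs : Function.Surjective f) (hk : f.ker = Z)
include h

theorem cop {R X : Subgroup Γ} (hR : Nat.card R = r) (hX : X ≤ L) : (Nat.card R).Coprime (Nat.card X) :=
  hR ▸ (Nat.Prime.coprime_iff_not_dvd h.rp).2 (not_dvd_of_le h.rL hX)

theorem sol {R : Subgroup Γ} (hR : Nat.card R = r) (X : Subgroup Γ) : Group.IsSolvable R ∨ Group.IsSolvable X :=
  Or.inl (sol_of_abelian (abelian_of_cyclic (cyclic_of_prime (hR ▸ h.rp))))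

theorem zc {z : Γ} (hz : z ∈ Z) (X : Subgroup Γ) : z ∈ C_(X) :=
  mem_cent.2 fun a _ => mem_center_iff.1 (h.Zc hz) a

include hk

theorem cL : (L.map f).comap f = L := comap_map_eq_self (hk ▸ h.ZL)

theorem cle {X : Subgroup Q} (hX : X ≤ L.map f) : X.comap f ≤ L := h.cL hk ▸ comap_mono hX

theorem cent {R : Subgroup Γ} (hR : Nat.card R = r) : (L.map f ⊓ C_(R.map f)).comap f ≤ C_(R) := by
  have h1 : R ≤ N_((L.map f ⊓ C_(R.map f)).comap f) := comap_norm f le_rfl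
    (norm_inf (map_norm f (by haveI := h.nL; rw [normalizer_eq_top]; exact le_top)) (norm_cent (le_norm _)))
  refine cent_symm (coprime_cent_of_comm h1 (h.cop hR (h.cle hk inf_le_left)) (h.sol hR _) ?_)
  refine fun z hz => h.zc ?_ R
  rw [← hk]
  refine (Subgroup.map_eq_bot_iff _).1 ?_ hz
  rw [map_commutator, comm_eq_bot]
  exact (map_comap_le f _).trans inf_le_right

include hs

theorem lift {R : Subgroup Q} (hR : Nat.card R = r) : ∃ R' : Subgroup Γ, Nat.card R' = r ∧ R'.map f = R := by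
  have h1 : r ∣ Nat.card (R.comap f) := by
    rw [← hR]
    conv_lhs => rw [← map_comap_eq_self_of_surjective hs R]
    exact card_map_dvd _ _
  obtain ⟨R', h2, h3⟩ := exists_card_eq_prime h.rp h1
  refine ⟨R', h3, eq_of_prime (hR ▸ h.rp) (map_le_iff_le_comap.2 h2) fun h4 => h.rL ?_⟩
  rw [Subgroup.map_eq_bot_iff, hk] at h4
  exact h3 ▸ card_dvd (h4.trans h.ZL)

theorem liftq {q : ℕ} (hq : q.Prime) {R : Subgroup Γ} (hR : Nat.card R = r) {X : Subgroup Q} (hX : X ≤ L.map f)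
    (hn : R.map f ≤ N_(X)) (hg : IsPGroup q X) :
    ∃ Y : Subgroup Γ, Y ≤ L ∧ IsPGroup q Y ∧ R ≤ N_(Y) ∧ Y.map f = X := by
  haveI : Finite Q := Finite.of_surjective f hs
  obtain ⟨Y, hY, hRY⟩ := coprime_sylow_exists hq (h.sol hR _) (comap_norm f le_rfl hn) (h.cop hR (h.cle hk hX))
  refine ⟨Y, hY.le.trans (h.cle hk hX), hY.pg hq, hRY, ?_⟩
  have h1 := hY.map f
  rw [map_comap_eq_self_of_surjective hs] at h1
  exact h1.eq_self ((isPi_singleton hq).2 hg)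

theorem lift2 {R : Subgroup Γ} (hR : Nat.card R = r) {X : Subgroup Q} (hX : X ≤ L.map f)
    (hn : ⁅X, R.map f⁆ = X) (hg : IsPGroup 2 X) :
    ∃ Y : Subgroup Γ, Y ≤ L ∧ IsPGroup 2 Y ∧ ⁅Y, R⁆ = Y ∧ Y.map f = X := by
  obtain ⟨Y, h1, h2, h3, h4⟩ := h.liftq hs hk Nat.prime_two hR hX (hn ▸ right_le_norm_comm _ _) hg
  exact ⟨⁅Y, R⁆, (comm_le_left h3).trans h1, pg_le h2 (comm_le_left h3),
    coprime_comm_comm h3 (h.cop hR h1) (h.sol hR _), by rw [map_commutator, h4, hn]⟩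

theorem hyp : Hq p r (L.map f) := by
  haveI : Finite Q := Finite.of_surjective f hs
  have hp := h.pp
  have hnil : ¬ Group.IsNilpotent (L.map f) := by
    intro hn
    have h1 : Group.IsNilpotent L := Subgroup.isNilpotent_of_ker_le_center (f.subgroupMap L) (fun x hx => by
      have h2 : (x : Γ) ∈ Z := hk ▸ (congrArg Subtype.val (MonoidHom.mem_ker.1 hx) : f x = 1)
      exact mem_center_iff.2 fun y => Subtype.ext (mem_center_iff.1 (h.Zc h2) y))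
    obtain ⟨P, hP⟩ := sylow_exists hp L
    exact h.ncl ⟨P, hP, nil_sylow_normal hp h1 hP⟩
  have rG : ¬ r ∣ Nat.card (L.map f) := fun h1 => h.rL (h1.trans (card_map_dvd _ _))
  have nG : (L.map f).Normal := h.nL.map f hs
  have cR : Nat.card (R₀.map f) = r := by
    rcases (Nat.dvd_prime h.rp).1 (h.cR ▸ card_map_dvd R₀ f) with h1 | h1
    · rw [BG.card_eq_one, Subgroup.map_eq_bot_iff, hk] at h1
      exact absurd (h.cR ▸ card_dvd (h1.trans h.ZL)) h.rL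
    · exact h1
  have hq : ∀ (R X : Subgroup Q) (q : ℕ), Nat.card R = r → q.Prime → q ≠ 2 → q ≠ p → X ≤ L.map f → R ≤ N_(X) →
      IsPGroup q X → X ≤ C_(R) := by
    intro R X q hR hq hq2 hqp hX hn hg
    obtain ⟨R, hR', rfl⟩ := h.lift hs hk hR
    obtain ⟨Y, h1, h2, h3, rfl⟩ := h.liftq hs hk hq hR' hX hn hg
    exact map_cent f (h.q R Y q hR' hq hq2 hqp h1 h3 h2)
  refine ⟨hp, h.p2, h.rp, h.r2, h.pr, h.fer, nG, ?_, fun hc => hnil (nil_of_abelian hc), rG, ?_, ?_, ?_, hq, ?_, ?_, ?_⟩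
  · refine simple_of2 hp (cR ▸ h.rp) (by rw [normalizer_eq_top]; exact le_top)
      (cR ▸ (Nat.Prime.coprime_iff_not_dvd h.rp).2 rG) (fun X q => hq _ X q cR) (fun N hN h1 h2 => ?_) hnil
    rw [← map_comap_eq_self_of_surjective hs N]
    rcases h.mx (N.comap f) (hk ▸ ker_le_comap f N) (h.cle hk hN) (comap_norm f le_rfl h1)
      (comap_norm f le_rfl h2) with h3 | h3
    · left; rw [h3, Subgroup.map_eq_bot_iff, hk]
    · right; rw [h3]
  · rw [index_map_eq _ hs (hk ▸ h.ZL), h.idx]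
  · intro R hR hc
    obtain ⟨R, hR', rfl⟩ := h.lift hs hk hR
    exact h.nc R hR' ((map_le_iff_le_comap.1 (le_inf le_rfl hc)).trans (h.cent hk hR'))
  · intro R H hR hH hn
    obtain ⟨R, hR', rfl⟩ := h.lift hs hk hR
    rw [← map_comap_eq_self_of_surjective hs H, ← map_commutator]
    refine PCl_map f (h.pc R _ hR' (lt_of_le_of_ne (h.cle hk hH.le) fun e => hH.ne ?_) (comap_norm f le_rfl hn))
    rw [← e, map_comap_eq_self_of_surjective hs]
  · intro R E hR hE hg hn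
    obtain ⟨R, hR', rfl⟩ := h.lift hs hk hR
    obtain ⟨Y, h1, h2, h3, rfl⟩ := h.lift2 hs hk hR' hE hn hg
    obtain ⟨a1, a2, a3, a4⟩ := h.m3 R Y hR' h1 h2 h3
    have h4 : ∀ y ∈ Y, f y ∈ C_(R.map f) → y ∈ Y ⊓ C_(R) := fun y hy hc =>
      ⟨hy, h.cent hk hR' ⟨mem_map_of_mem f (h1 hy), hc⟩⟩
    refine ⟨?_, ?_, ?_, ?_⟩
    · rintro _ ⟨⟨y, hy, rfl⟩, hc⟩
      exact mem_map_cent f (a1.ge (h4 y hy hc)).2
    · rw [← map_commutator, a2]
      exact map_cent f inf_le_right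
    · rintro _ ⟨y, hy, rfl⟩
      rw [← map_pow]
      exact mem_map_cent f (a3 y hy)
    · rintro _ ⟨⟨y, hy, rfl⟩, hc⟩
      rw [← map_pow, a4 y (h4 y hy hc), map_one]
  · intro R F hR hF hg hn h0 hab
    obtain ⟨R, hR', rfl⟩ := h.lift hs hk hR
    obtain ⟨Y, h1, h2, h3, rfl⟩ := h.lift2 hs hk hR' hF hn hg
    obtain ⟨a1, a2, a3, a4⟩ := h.m3 R Y hR' h1 h2 h3
    have h4 : Y ⊓ C_(R) ≤ Z := by
      rw [← a2, ← hk, ← Subgroup.map_eq_bot_iff, map_commutator]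
      exact abelian_iff_der.1 hab
    obtain ⟨b1, b2⟩ := h.m4 R Y hR' h1 h2 h3 (fun e => h0 (by rw [e, Subgroup.map_bot])) h4
    obtain ⟨b, hb, hb1⟩ := exists_mem_ne_one (ne_bot_of_prime (b1 ▸ Nat.prime_two))
    set C := (L.map f ⊓ C_(Y.map f)).comap f with hC
    have h5 : Y ≤ C := map_le_iff_le_comap.1 (le_inf hF (abelian_iff.1 hab))
    have h6 : ⁅Y, C⁆ ≤ Y ⊓ C_(R) := by
      refine commutator_le.2 fun y hy c hc => ?_
      have h7 : ⁅y, c⁆ ∈ Z := by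
        rw [← hk, MonoidHom.mem_ker, map_commutatorElement, commutatorElement_eq_one_iff_mul_comm]
        exact mem_cent.1 hc.2 _ (mem_map_of_mem f hy)
      have h8 : ⁅y, c⁆ ^ 2 = 1 := by
        have e1 := mem_center_iff.1 (h.Zc h7) y
        have e2 := mem_center_iff.1 (h.Zc (h4 ⟨pow_mem hy 2, a3 y hy⟩)) c
        have e3 : ⁅y, c⁆ ^ 2 = y * ⁅y, c⁆ * y⁻¹ * ⁅y, c⁆ := by rw [e1, sq]; group
        rw [e3, commutatorElement_def]
        calc _ = y ^ 2 * c * (y ^ 2)⁻¹ * c⁻¹ := by rw [sq]; group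
          _ = 1 := by rw [← e2]; group
      by_cases h9 : ⁅y, c⁆ = 1
      · rw [h9]; exact one_mem _
      · rw [h.inv1 _ h7 b (h4 hb) h8 (a4 b hb) h9 hb1]; exact hb
    haveI := Fact.mk Nat.prime_two
    have h7 := H04.sup_inf_centralizer_eq h2 h5
      (a1.trans_le (a2.ge.trans (der_le_phi Nat.prime_two h2))) b1.le h6
    have hRY : R ≤ N_(Y) := h3 ▸ right_le_norm_comm _ _
    have h8 : ⁅C, R⁆ ≤ Y := by
      rw [← h7]
      refine comm_sup_le (le_norm Y) (le_norm_of_cent inf_le_right) h3.le ?_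
      rw [comm_eq_bot.2 (inf_le_right.trans b2)]
      exact bot_le
    rw [← map_comap_eq_self_of_surjective hs (L.map f ⊓ _), ← map_commutator]
    exact map_mono h8
  · intro R F a hR hF hg hn ha hpa a1 a2 a3
    obtain ⟨R, hR', rfl⟩ := h.lift hs hk hR
    obtain ⟨Y, h1, h2, h3, rfl⟩ := h.lift2 hs hk hR' hF hn hg
    obtain ⟨A, b1, b2, -, b4⟩ := h.liftq hs hk hp hR' (zpowers_le.2 ha)
      (le_norm_of_cent (cent_symm (zpowers_le.2 a1))) hpa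
    obtain ⟨x, hx, rfl⟩ := b4.ge (mem_zpowers a)
    have c1 : x ∈ C_(R) := h.cent hk hR' ⟨ha, a1⟩
    have c2 : ⁅(Y.map f).comap f, R⁆ = Y := by
      rw [comap_map_eq, hk, comm_sup_cent (fun z hz => h.zc hz R) fun z hz => cent_le_norm _ (h.zc hz _), h3]
    have c3 : zpowers x ≤ N_(Y) := c2 ▸ norm_comm (comap_norm f (by rw [MonoidHom.map_zpowers]) (zpowers_le.2 a2))
      (le_norm_of_cent (zpowers_le.2 c1))
    have c4 : IsPGroup p (zpowers x) := pg_le b2 (zpowers_le.2 hx)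
    refine mem_map_cent f (h.m5 R Y x hR' h1 h2 h3 (b1 hx) c4 c1 (zpowers_le.1 c3) (zpowers_le.1
      (coprime_cent_of_comm (norm_inf c3 (norm_cent (le_norm_of_cent (zpowers_le.2 c1))))
        (pg_coprime_ne hp Nat.prime_two c4 (pg_le h2 inf_le_left) h.p2) (Or.inl (pg_sol hp c4)) fun z hz => h.zc ?_ _)))
    rw [← hk]
    refine (Subgroup.map_eq_bot_iff _).1 ?_ hz
    rw [map_commutator, comm_eq_bot, MonoidHom.map_zpowers]
    exact (le_inf (map_mono inf_le_left) (map_cent f inf_le_right)).trans (cent_symm (zpowers_le.2 a3))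

end Pre2

theorem Pre2.false (hG : G1Stmt.{u}) {L Z R₀ : Subgroup Γ} (h : Pre2 p r L Z R₀) : False := by
  haveI : Z.Normal := ⟨fun z hz g => by rw [mem_center_iff.1 (h.Zc hz) g, mul_inv_cancel_right]; exact hz⟩
  exact hG (Γ ⧸ Z) p r _ (h.hyp (QuotientGroup.mk'_surjective Z) (QuotientGroup.ker_mk' Z))

end H22.HM
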