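import Mathlib
import Cfsg.Agent.H22.HM1
import Cfsg.Agent.H22.FK2

/-! General Hall–Higman–Shult core, part 2: `coreS : M5Stmt → G1Stmt → CoreS` (namespace `H22.HM`). -/

set_option autoImplicit false
open Cfsg BG Subgroup
open scoped commutatorElement
universe u
namespace H22.HM
open Cfsg.Agent.H06.FV Cfsg.Agent.H06.HS Cfsg.Agent.H29.FC

variable {Γ : Type u} [Group Γ] {p r : ℕ} {V R L : Subgroup Γ}

/-- the hypotheses of `CoreS` together with the failure of the conclusion -/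
structure St2 (p r : ℕ) (V R L : Subgroup Γ) : Prop where
  md : Md p r V R
  LV : L ≤ N_(V)
  RL : R ≤ N_(L)
  rL : ¬ r ∣ Nat.card L
  fa : (L ⊔ R) ⊓ C_(V) = ⊥
  gr : ⁅L, R⁆ = L
  irr : ∀ U ≤ V, L ≤ N_(U) → R ≤ N_(U) → U = ⊥ ∨ U = V
  pc : ∀ H < L, R ≤ N_(H) → PCl p ⁅H, R⁆
  ncl : ¬ PCl p L

variable [Finite Γ]

namespace St2
variable (h : St2 p r V R L)
include h

theorem Rp : (Nat.card R).Prime := h.md.cR ▸ h.md.rp

theorem sol (X : Subgroup Γ) : Group.IsSolvable R ∨ Group.IsSolvable X :=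
  Or.inl (sol_of_abelian (abelian_of_cyclic (cyclic_of_prime h.Rp)))

theorem cop {X : Subgroup Γ} (hX : X ≤ L) : (Nat.card R).Coprime (Nat.card X) :=
  h.md.cR ▸ (Nat.Prime.coprime_iff_not_dvd h.md.rp).2 (not_dvd_of_le h.rL hX)

theorem fa' {X : Subgroup Γ} (hX : X ≤ L) : (X ⊔ R) ⊓ C_(V) = ⊥ :=
  eq_bot_mono h.fa (inf_le_inf_right _ (sup_le_sup_right hX R))

theorem irr' {X : Subgroup Γ} (hX : X ≤ L) (h1 : L ≤ N_(X)) (h2 : R ≤ N_(X)) (h3 : V ⊓ C_(X) ≠ ⊥) : X = ⊥ := by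
  have h4 := (h.irr _ inf_le_left (norm_inf h.LV (norm_cent h1)) (norm_inf h.md.RV (norm_cent h2))).resolve_left h3
  exact eq_bot_mono h.fa (le_inf (hX.trans le_sup_left) (cent_symm (h4.ge.trans inf_le_right)))

theorem semi {z : Γ} (hz : z ∈ L) (h1 : z ∈ C_(L)) (h2 : z ∈ C_(R)) (hz1 : z ≠ 1) : V ⊓ C_[z] = ⊥ := by
  by_contra h3
  rw [← cent_zpowers] at h3
  exact zpowers_ne_bot hz1 (h.irr' (zpowers_le.2 hz) (le_norm_of_cent (cent_symm (zpowers_le.2 h1)))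
    (le_norm_of_cent (cent_symm (zpowers_le.2 h2))) h3)

theorem Op {X : Subgroup Γ} (hX : X ≤ L) (hg : IsPGroup p X) (h1 : L ≤ N_(X)) (h2 : R ≤ N_(X)) : X = ⊥ := by
  refine h.irr' hX h1 h2 (pg_fix_ne_bot h.md.pp hg (pg_of_pow h.md.ea.2) (hX.trans h.LV) ?_)
  rintro rfl
  exact ne_bot_of_prime h.Rp (eq_bot_mono h.fa (le_inf le_sup_right le_cent_bot))

theorem pL : p ∣ Nat.card L := by
  by_contra h1
  exact h.ncl ⟨⊥, sylow_bot h.md.pp h1, le_norm_bot⟩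

theorem nc : ¬ L ≤ C_(R) := fun e => ne_bot_of_dvd h.md.pp h.pL (h.gr.symm.trans (comm_eq_bot.2 e))

theorem r2 : r ≠ 2 := by
  intro h2
  obtain ⟨t, ht⟩ := cyclic_iff.1 (cyclic_of_prime h.Rp)
  have htR : t ∈ R := ht ▸ mem_zpowers t
  have h3 : t ^ 2 = 1 := by rw [← h2, ← h.md.cR]; exact pow_card_eq_one htR
  have h4 := inverts h.md.ea.1 (h.md.RV htR) h3 (by rw [← cent_zpowers, ht, h.md.fpf])
  refine h.nc fun l hl => ?_
  have h5 : ∀ v ∈ V, (l * t * l⁻¹) * v * (l * t * l⁻¹)⁻¹ = v⁻¹ := fun v hv => by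
    calc _ = l * (t * (l⁻¹ * v * l) * t⁻¹) * l⁻¹ := by group
      _ = _ := by rw [h4 _ (conj_mem_of_norm' (h.LV hl) hv)]; group
  have h6 : l * t * l⁻¹ * t⁻¹ ∈ (L ⊔ R) ⊓ C_(V) :=
    ⟨mul_mem (mul_mem (mul_mem (mem_sup_left hl) (mem_sup_right htR)) (mem_sup_left (inv_mem hl)))
      (mem_sup_right (inv_mem htR)), two_inv h5 h4⟩
  rw [h.fa, mem_bot, mul_inv_eq_one, mul_inv_eq_iff_eq_mul] at h6
  rw [← ht, cent_zpowers]
  exact mem_cent1.2 h6

theorem kit : Kit p r V R := H22.FK.kit Γ p r V R h.md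

theorem solR : Group.IsSolvable R := sol_of_abelian (abelian_of_cyclic (cyclic_of_prime h.Rp))

theorem hq (q : ℕ) (X : Subgroup Γ) (hq : q.Prime) (q2 : q ≠ 2) (qp : q ≠ p) (hX : X ≤ L) (hn : R ≤ N_(X))
    (hg : IsPGroup q X) : X ≤ C_(R) := by
  by_cases qr : q = r
  · rw [pg_eq_bot hq hg (qr ▸ not_dvd_of_le h.rL hX)]; exact bot_le
  exact h.kit.m2 q X hq q2 qp qr (hX.trans h.LV) hn (h.fa' hX) hg

theorem l1 {H P D K : Subgroup Γ} (hH : H ≤ L) (hn : R ≤ N_(H)) (hP : IsSylowIn p P H) (nP : R ≤ N_(P))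
    (hD : IsSylowIn 2 D H) (nD : R ≤ N_(D)) (hK : K ≤ H) (nK : R ≤ N_(K)) (h1 : ⁅P, R⁆ ≤ K) (h2 : ⁅D, R⁆ ≤ K) :
    ⁅H, R⁆ ≤ K :=
  (l1g h.md.pp h.solR hn (h.cop hH) (fun q X a b c d => h.hq q X a b c (d.trans hH)) hP nP hD nD hK nK h1 h2).trans
    (comm_le_left nK)

theorem fer : ∃ n : ℕ, r = 2 ^ n + 1 := by
  by_contra e
  obtain ⟨P, hP, nP⟩ := coprime_sylow_exists h.md.pp (h.sol _) h.RL (h.cop le_rfl)
  obtain ⟨D, hD, nD⟩ := coprime_sylow_exists Nat.prime_two (h.sol _) h.RL (h.cop le_rfl)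
  have h1 : D ≤ C_(R) := by
    by_contra e1
    exact Agent.S3765.result h.md.pp Nat.prime_two h.md.rp h.md.p2 (H22.FK.pr h.md h.fa) h.r2.symm R D V h.md.cR
      (hD.pg Nat.prime_two) nD (inf_eq_bot_of_prime h.Rp fun e' => e1 (cent_symm e')) h.md.ea (H22.FK.Vne h.md h.fa)
      h.md.RV (hD.le.trans h.LV) (by rw [sup_comm]; exact h.fa' hD.le) (fun _ e2 => (e e2).elim) h.md.fpf
  have h2 := h.l1 le_rfl h.RL hP nP hD nD hP.le nP (comm_le_left nP) (by rw [comm_eq_bot.2 h1]; exact bot_le)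
  exact h.ncl ⟨P, hP, norm_of_le (h.gr.ge.trans h2)⟩

theorem op {H : Subgroup Γ} (hH : H < L) (hn : R ≤ N_(H)) : ∃ Q : Subgroup Γ, IsPGroup p Q ∧ Q ≤ H ∧
    H ≤ N_(Q) ∧ ∀ X : Subgroup Γ, IsPGroup p X → X ≤ H → R ≤ N_(X) → ⁅X, R⁆ ≤ Q := by
  obtain ⟨Q, s, n⟩ := h.pc H hH hn
  exact ⟨Q, s.pg h.md.pp, s.le.trans (comm_le_left hn), (left_le_norm_comm _ _).trans (s.norm_le n), fun X a b c =>
    s.le_of_norm_pg' h.md.pp (pg_le a (comm_le_left c)) (comm_mono b le_rfl) ((comm_mono b le_rfl).trans n)⟩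

theorem nz {N : Subgroup Γ} (hN : N < L) (h1 : L ≤ N_(N)) (h2 : R ≤ N_(N)) : ⁅N, R⁆ ≤ piCoreOf {2} L := by
  obtain ⟨Q, a1, a2, a3, a4⟩ := h.op hN h2
  have h3 : Q = ⊥ := eq_bot_mono (h.Op ((pcore_le _ N).trans hN.le) (pcore_pg h.md.pp N) (norm_pcore _ h1)
    (norm_pcore _ h2)) (le_pcore_pg h.md.pp a1 a2 a3)
  obtain ⟨P, hP, nP⟩ := coprime_sylow_exists h.md.pp (h.sol _) h2 (h.cop hN.le)
  obtain ⟨D, hD, nD⟩ := coprime_sylow_exists Nat.prime_two (h.sol _) h2 (h.cop hN.le)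
  have h4 := h.l1 hN.le h2 hP nP hD nD hD.le nD ((a4 P (hP.pg h.md.pp) hP.le nP).trans (h3.le.trans bot_le))
    (comm_le_left nD)
  exact (le_pcore_pg Nat.prime_two (pg_le (hD.pg Nat.prime_two) h4) (comm_le_left h2) (left_le_norm_comm _ _)).trans
    (pcore_le_of_norm _ hN.le h1)

theorem cl {T P : Subgroup Γ} (hT : IsPGroup 2 T) (hP : IsPGroup p P) (h1 : P ≤ N_(T)) (h2 : R ≤ N_(T)) (h3 : R ≤ N_(P))
    (hl : T ⊔ P < L) : ⁅P, R⁆ ≤ C_(T) := by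
  obtain ⟨Q, a1, a2, a3, a4⟩ := h.op hl (norm_sup h2 h3)
  exact (a4 P hP le_sup_right h3).trans (le_cent_of_coprime (a2.trans (sup_le_norm_left h1)) (le_sup_left.trans a3)
    (pg_coprime_ne h.md.pp Nat.prime_two a1 hT h.md.p2))

theorem claim (h5 : M5Stmt.{u}) {D P : Subgroup Γ} (hP : IsSylowIn p P L) (hRP : R ≤ N_(P)) (hD2 : IsPGroup 2 D)
    (hDL : D ≤ L) (hLD : L ≤ N_(D)) (hRD : R ≤ N_(D)) (hA : ¬ D ≤ C_(R)) : ⁅P, R⁆ ≤ C_(D) := by
  by_contra hnc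
  have hp := h.md.pp
  have hPg := hP.pg hp
  have hPD := hP.le.trans hLD
  have cPD := pg_coprime_ne hp Nat.prime_two hPg hD2 h.md.p2
  have hDP : D ⊔ P = L := by
    by_contra e
    exact hnc (h.cl hD2 hPg hPD hRD hRP (lt_of_le_of_ne (sup_le hDL hP.le) e))
  have o1 : P ⊓ C_(D) = ⊥ := h.Op (inf_le_left.trans hP.le) (pg_le hPg inf_le_left)
    (hDP ▸ sup_le (le_norm_of_cent (cent_symm inf_le_right)) (le_norm_inf_cent hPD)) (norm_inf hRP (norm_cent hRD))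
  have o2 : ∀ X < P, R ≤ N_(X) → X ≤ C_(R) := fun X hX hn => by
    refine comm_eq_bot.1 (eq_bot_mono o1 (le_inf ((comm_le_left hn).trans hX.le) (h.cl hD2 (pg_le hPg hX.le)
      (hX.le.trans hPD) hRD hn (lt_of_le_of_ne (sup_le hDL (hX.le.trans hP.le)) fun e => hX.ne ?_))))
    have e1 := BG.dedekind' hX.le (Or.inr (hX.le.trans hPD))
    rw [e, inf_eq_right.2 hP.le, inf_comm, BG.inf_eq_bot_of_coprime cPD, bot_sup_eq] at e1
    exact e1.symm
  have o3 : ⁅P, R⁆ = P := by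
    by_contra e
    refine hnc ?_
    rw [← coprime_comm_comm hRP (h.cop hP.le) (h.sol _),
      comm_eq_bot.2 (o2 _ (lt_of_le_of_ne (comm_le_left hRP) e) (right_le_norm_comm _ _))]
    exact bot_le
  rw [o3] at hnc
  have o4 : P ⊓ C_(R) < P := inf_lt_left.2 fun e => hnc (by rw [← o3, comm_eq_bot.2 e]; exact bot_le)
  have nY : R ≤ N_(P ⊓ C_(R)) := norm_inf hRP (norm_cent (le_norm R))
  have o5 : P ≤ N_(P ⊓ C_(R)) := by
    by_contra e
    exact (nil_lt_norm (pg_nil hp hPg) o4).not_ge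
      (le_inf inf_le_left (o2 _ (inf_lt_left.2 e) (norm_inf hRP (norm_norm nY))))
  by_cases hY : P ⊓ C_(R) = ⊥
  · have cp : ¬ p ∣ Nat.card ↥(L ⊓ C_(R)) := fun e => by
      obtain ⟨X, h1, h2⟩ := exists_card_eq_prime hp e
      obtain ⟨S, s1, s2, s3⟩ := coprime_sylow_superset hp (h.sol _) h.RL (h.cop le_rfl) (pg_of_card_eq h2)
        (h1.trans inf_le_left) (le_norm_of_cent (cent_symm (h1.trans inf_le_right)))
      obtain ⟨c, hc, rfl⟩ := coprime_sylow_trans hp (h.sol _) h.RL (h.cop le_rfl) hP s1 hRP s2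
      refine ne_bot_of_prime (h2 ▸ hp) (eq_bot_iff.2 ((le_inf s3 (h1.trans inf_le_right)).trans ?_))
      rw [← cj_of_mem (X := C_(R)) hc.2, ← cj_inf, hY, cj_bot]
    refine St.caseA ⟨h.md, h.LV, h.RL, h.rL, h.fa, cp, h.irr, fun H hH hn => ?_, h.ncl⟩ hP hRP h.kit hDL
      (pg_not_dvd hp Nat.prime_two hD2 h.md.p2) hLD hRD hDP
    obtain ⟨Q, s, n⟩ := h.pc H hH hn
    refine ⟨Q, s.trans_idx (comm_le_left hn) fun e => cp ?_, (left_le_norm_comm _ _).trans (s.norm_le n)⟩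
    nth_rewrite 2 [← coprime_comm_sup_cent hn (h.cop hH.le) (h.sol _)] at e
    rw [relIndex_sup (inf_le_left.trans (left_le_norm_comm _ _))] at e
    exact (e.trans (BG.relIndex_dvd_card _ _)).trans (card_dvd (inf_le_inf_right _ hH.le))
  have hmin : ∀ X < D, P ≤ N_(X) → R ≤ N_(X) → P ≤ C_(X) := fun X hX h1 h2 => by
    refine o3 ▸ h.cl (pg_le hD2 hX.le) hPg h1 h2 hRP (lt_of_le_of_ne (sup_le (hX.le.trans hDL) hP.le) fun e => hX.ne ?_)
    have e1 := BG.dedekind hX.le (Or.inl h1)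
    rw [e, inf_eq_left.2 hDL, inf_comm, BG.inf_eq_bot_of_coprime cPD, sup_bot_eq] at e1
    exact e1.symm
  have hCne : D ⊓ C_(P) ≠ D := fun e => hnc (cent_symm (e.ge.trans inf_le_right))
  have hDD : ⁅D, P⁆ = D := by
    by_contra hne
    exact hnc (coprime_cent_of_comm hPD cPD (Or.inl (pg_sol hp hPg)) (cent_symm
      (hmin _ (lt_of_le_of_ne (comm_le_left hPD) hne) (right_le_norm_comm _ _) (norm_comm hRD hRP))))
  have hN : D ⊓ C_(P) ⊔ ⁅D, D⁆ ≤ C_(D) := by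
    have h1 : D ⊓ C_(P) ⊔ ⁅D, D⁆ < D := lt_of_le_of_ne (sup_le inf_le_left (der_le D)) fun e =>
      hCne (eq_of_le_sup_phi inf_le_left (e.ge.trans (sup_le_sup_left (der_le_phi Nat.prime_two hD2) _)))
    have h2 := hmin _ h1 (norm_sup (norm_inf hPD (norm_cent (le_norm P))) (norm_der hPD))
      (norm_sup (norm_inf hRD (norm_cent hRP)) (norm_der hRD))
    refine cent_symm (comm_eq_bot.1 ?_)
    have h3 := three_subgroup (A := P) (H := D) (K := D ⊓ C_(P) ⊔ ⁅D, D⁆)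
      (comm_eq_bot.2 ((comm_le_right (le_norm_of_der_le le_sup_right h1.le)).trans (cent_symm h2)))
      (by rw [comm_eq_bot.2 (cent_symm h2), commutator_bot_left])
    rwa [comm_comm P D, hDD] at h3
  have hZR : D ⊓ C_(D) ≤ C_(R) := h.kit.m1 _ (inf_le_left.trans (hDL.trans h.LV)) (norm_inf hRD (norm_cent hRD))
    (h.fa' (inf_le_left.trans hDL)) (pg_not_dvd hp Nat.prime_two (pg_le hD2 inf_le_left) h.md.p2)
    (not_dvd_of_le h.rL (inf_le_left.trans hDL)) (abelian_center D)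
  have hED : ⁅D, R⁆ ≤ D := comm_le_left hRD
  have hEE : ⁅⁅D, R⁆, R⁆ = ⁅D, R⁆ := coprime_comm_comm hRD (h.cop hDL) (h.sol _)
  obtain ⟨-, a2, -, -⟩ := h.kit.m3 _ (hED.trans (hDL.trans h.LV)) (h.fa' (hED.trans hDL)) (pg_le hD2 hED) h.r2 hEE
  have o6 : P ≤ C_(⁅D, D⁆) := hmin _ (lt_of_le_of_lt (der_le_phi Nat.prime_two hD2)
    (phi_lt fun e => hA (e ▸ bot_le))) (norm_der hPD) (norm_der hRD)
  have o7 : P ⊓ C_(R) ≤ C_(⁅D, R⁆) := fun a ha =>
    h5 Γ p r V R _ a h.md (hED.trans (hDL.trans h.LV)) (h.LV (hP.le ha.1))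
      (h.fa' (sup_le (hED.trans hDL) (zpowers_le.2 (hP.le ha.1)))) (pg_le hD2 hED) h.r2 hEE
      (pg_le hPg (zpowers_le.2 ha.1)) ha.2 (norm_comm (inf_le_left.trans hPD) (inf_le_right.trans (cent_le_norm R)) ha)
      (a2 ▸ cent_anti (der_mono hED) (o6 ha.1))
  by_cases e : D ≤ C_(P ⊓ C_(R))
  · exact hY (eq_bot_mono o1 (le_inf inf_le_left (cent_symm e)))
  have o8 : ⁅D, R⁆ ≤ C_(P) := (le_inf hED (cent_symm o7)).trans (cent_symm
    (hmin _ (inf_lt_left.2 e) (norm_inf hPD (norm_cent o5)) (norm_inf hRD (norm_cent nY))))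
  exact hA (cent_symm (coprime_cent_of_comm hRD (h.cop hDL) (h.sol _)
    ((le_inf hED ((le_inf hED o8).trans (le_sup_left.trans hN))).trans hZR)))

theorem caseA (h5 : M5Stmt.{u}) : piCoreOf {2} L ≤ C_(R) := by
  by_contra hA
  have hp := h.md.pp
  obtain ⟨P, hP, nP⟩ := coprime_sylow_exists hp (h.sol _) h.RL (h.cop le_rfl)
  have hT := pcore_pg Nat.prime_two L
  have hTL := pcore_le {2} L
  have hLT := le_norm_pcore {2} L
  have hRT := norm_pcore {2} h.RL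
  have h1 := h.claim h5 hP nP hT hTL hLT hRT hA
  have h2 := @St2.nz Γ _ p r V R L _ h
  generalize piCoreOf {2} L = T at *
  have m1 : ∀ X ≤ T, R ≤ N_(X) → X ≤ C_(T) → X ≤ C_(R) := fun X a b c => h.kit.m1 X ((a.trans hTL).trans h.LV) b
    (h.fa' (a.trans hTL)) (pg_not_dvd hp Nat.prime_two (pg_le hT a) h.md.p2) (not_dvd_of_le h.rL (a.trans hTL))
    (abelian_iff.2 (c.trans (cent_anti a)))
  have nC : R ≤ N_(L ⊓ C_(T)) := norm_inf h.RL (norm_cent hRT)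
  have h3 : L ⊓ C_(T) ≤ C_(R) := cent_symm (coprime_cent_of_comm nC (h.cop inf_le_left) (h.sol _)
    (m1 _ (h2 (inf_lt_left.2 fun e => hA (m1 T le_rfl hRT (hTL.trans e))) (le_norm_inf_cent hLT) nC)
      (right_le_norm_comm _ _) ((comm_le_left nC).trans inf_le_right)))
  have h4 : R ≤ C_(P) := coprime_cent_of_comm nP (h.cop hP.le) (h.sol _)
    ((le_inf ((comm_le_left nP).trans hP.le) h1).trans h3)
  obtain ⟨D, hD, nD⟩ := coprime_sylow_exists Nat.prime_two (h.sol _) h.RL (h.cop le_rfl)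
  have h6 := h.l1 le_rfl h.RL hP nP hD nD hD.le nD (by rw [comm_eq_bot.2 (cent_symm h4)]; exact bot_le) (comm_le_left nD)
  exact pg_not_dvd hp Nat.prime_two (pg_le (hD.pg Nat.prime_two) (h.gr.ge.trans h6)) h.md.p2 h.pL

theorem conj {R' : Subgroup Γ} (h1 : R' ≤ L ⊔ R) (h2 : Nat.card R' = r) : St2 p r V R' L := by
  have hS : IsSylowIn r R (L ⊔ R) := isSylowIn_mk h.md.rp le_sup_right (pg_of_card_eq h.md.cR)
    (by rw [relIndex_sup' h.RL]; exact fun e => h.rL (e.trans (BG.relIndex_dvd_card _ _)))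
  obtain ⟨g, hg, rfl⟩ := sylow_trans h.md.rp hS (hS.of_card_eq h1 (h2.trans h.md.cR.symm))
  have gV : cj g V = V := cj_of_mem_norm (sup_le h.LV h.md.RV hg)
  have gL : cj g L = L := cj_of_mem_norm (sup_le_norm_left h.RL hg)
  have back : ∀ X Y : Subgroup Γ, cj g X ≤ N_(Y) → X ≤ N_(cj g⁻¹ Y) := fun X Y e => by
    rw [← cj_norm]; exact cj_le_iff.1 e
  refine ⟨⟨h.md.pp, h.md.p2, h.md.rp, h.md.ea, h2, h1.trans (sup_le h.LV h.md.RV), ?_⟩, h.LV,
    h1.trans (sup_le_norm_left h.RL), h.rL, eq_bot_mono h.fa (inf_le_inf_right _ (sup_le le_sup_left h1)), ?_,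
    fun U hU a b => ?_, fun H hH a => ?_, h.ncl⟩
  · rw [← gV, ← cj_cent, ← cj_inf, h.md.fpf, cj_bot]
  · rw [← gL, ← cj_comm, h.gr]
  · rcases h.irr (cj g⁻¹ U) (le_cj_iff.1 (gV.symm ▸ hU)) (back _ _ (gL.symm ▸ a)) (back _ _ b) with e | e
    · left; rw [← cj_cj_inv g U, e, cj_bot]
    · right; rw [← cj_cj_inv g U, e, gV]
  · have h3 : cj g⁻¹ H < L := lt_of_le_of_ne (le_cj_iff.1 (gL.symm ▸ hH.le)) fun e =>
      hH.ne (by rw [← cj_cj_inv g H, e, gL])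
    rw [← cj_cj_inv g H, ← cj_comm]
    exact PCl_map _ (h.pc _ h3 (back _ _ a))

theorem pre (h5 : M5Stmt.{u}) {Z : Subgroup Γ} (hZ : Z ≤ L) (hZL : Z ≤ C_(L))
    (hZR : Z ≤ C_(R)) (mx : ∀ N, Z ≤ N → N < L → L ≤ N_(N) → R ≤ N_(N) → N = Z) :
    Pre2 p r (L.subgroupOf (L ⊔ R)) (Z.subgroupOf (L ⊔ R)) (R.subgroupOf (L ⊔ R)) := by
  set M := L ⊔ R with hM
  have hi := M.subtype_injective
  have eL : (L.subgroupOf M).map M.subtype = L := map_subgroupOf_eq_of_le le_sup_left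
  have eR : (R.subgroupOf M).map M.subtype = R := map_subgroupOf_eq_of_le le_sup_right
  have eZ : (Z.subgroupOf M).map M.subtype = Z := map_subgroupOf_eq_of_le (hZ.trans le_sup_left)
  have cm : ∀ X : Subgroup M, Nat.card (X.map M.subtype) = Nat.card X := fun X => card_map_of_injective hi
  have st : ∀ R' : Subgroup M, Nat.card R' = r → St2 p r V (R'.map M.subtype) L := fun R' hR =>
    h.conj (map_subtype_le _) (by rw [cm, hR])
  have le : ∀ {X : Subgroup M}, X ≤ L.subgroupOf M → X.map M.subtype ≤ L := fun hX => eL ▸ map_mono hX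
  have mapc : ∀ {E R' : Subgroup M}, ⁅E, R'⁆ = E → ⁅E.map M.subtype, R'.map M.subtype⁆ = E.map M.subtype :=
    fun e => by rw [← map_commutator, e]
  have semi : ∀ z ∈ Z, z ≠ 1 → V ⊓ C_[z] = ⊥ := fun z hz hz1 => h.semi (hZ hz) (hZL hz) (hZR hz) hz1
  refine ⟨h.md.pp, h.md.p2, h.md.rp, h.r2, H22.FK.pr h.md h.fa, h.fer, normal_subgroupOf_of_le_normalizer (sup_le_norm_left h.RL), ?_,
    by rw [← cm, eR, h.md.cR], comap_mono hZ, ?_, by rw [← cm, eL]; exact h.rL,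
    fun e => h.ncl (eL ▸ PCl_map _ e), ?_, ?_, ?_, ?_, ?_, ?_, ?_, ?_⟩
  · rw [← h.md.cR]
    exact (sdprod_sup h.RL (BG.inf_eq_bot_of_coprime (h.cop le_rfl).symm)).relIndex_left
  · intro z hz
    exact mem_center_iff.2 fun g => Subtype.ext (mem_cent.1 (le_cent_sup hZL hZR hz) g g.2)
  · intro N h1 h2 h3 h4
    by_cases e : N.map M.subtype = L
    · exact Or.inr (map_injective hi (e.trans eL.symm))
    · exact Or.inl (map_injective hi ((mx _ (eZ ▸ map_mono h1) (lt_of_le_of_ne (le h2) e)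
        (eL ▸ map_norm _ h3) (eR ▸ map_norm _ h4)).trans eZ.symm))
  · intro a ha b hb a2 b2 a1 b1
    have i1 := inverts h.md.ea.1 (h.LV (hZ ha)) (congrArg Subtype.val a2) (semi a ha fun e => a1 (Subtype.ext e))
    have i2 := inverts h.md.ea.1 (h.LV (hZ hb)) (congrArg Subtype.val b2) (semi b hb fun e => b1 (Subtype.ext e))
    exact Subtype.ext (mul_inv_eq_one.1 (eq_one_of_mem_of_disj h.fa (mul_mem a.2 (inv_mem b.2)) (two_inv i1 i2)))
  · intro R' hR e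
    exact (st R' hR).nc (eL ▸ map_cent _ e)
  · intro R' H hR hH hn
    refine pcl_of_map hi ?_
    rw [map_commutator]
    exact (st R' hR).pc _ (lt_of_le_of_ne (le hH.le) fun e => hH.ne (map_injective hi (e.trans eL.symm))) (map_norm _ hn)
  · intro R' X q hR hq q2 qp hX hn hg x hx
    exact (mem_cent_inj hi).1 ((st R' hR).hq q _ hq q2 qp (le hX) (map_norm _ hn) (hg.map _) (mem_map_of_mem _ hx))
  · intro R' E hR hE hg hn
    have s := st R' hR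
    obtain ⟨a1, a2, a3, a4⟩ := s.kit.m3 _ ((le hE).trans h.LV) (s.fa' (le hE)) (hg.map _) h.r2 (mapc hn)
    refine ⟨map_injective hi ?_, map_injective hi ?_, fun x hx => (mem_cent_inj hi).1 ?_, fun b hb => hi ?_⟩
    · rw [map_inf_cent hi, map_inf_cent hi, a1]
    · rw [map_inf_cent hi, map_commutator, a2]
    · rw [map_pow]; exact a3 _ (mem_map_of_mem _ hx)
    · rw [map_pow, map_one]; exact a4 _ ⟨mem_map_of_mem _ hb.1, mem_map_cent _ hb.2⟩
  · intro R' F hR hF hg hn h0 hz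
    have s := st R' hR
    obtain ⟨⟨n, -, -, a1⟩, a2⟩ := s.kit.m4 _ ((le hF).trans h.LV) (s.fa' (le hF)) (hg.map _) h.r2
      (mapc hn) (fun e => h0 ((Subgroup.map_eq_bot_iff_of_injective _ hi).1 e))
      (fun z hz' => semi z (eZ ▸ map_mono hz (by rwa [map_inf_cent hi])))
    refine ⟨by rw [← cm, map_inf_cent hi, a1], fun c hc => (mem_cent_inj hi).1 ?_⟩
    have h1 := a2 c (sup_le h.LV h.md.RV c.2)
      ((comm_eq_bot.2 (zpowers_le.2 (mem_map_cent M.subtype hc))).trans_le bot_le)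
    exact zpowers_le.1 (comm_eq_bot.1 (eq_bot_mono h.fa
      (le_inf (comm_le_of_le (zpowers_le.2 c.2) (map_subtype_le _)) h1)))
  · intro R' F a hR hF hg hn ha hpa a1 a2 a3
    have s := st R' hR
    refine (mem_cent_inj hi).1 (h5 Γ p r V _ _ a s.md ((le hF).trans h.LV) (h.LV ha)
      (s.fa' (sup_le (le hF) (zpowers_le.2 ha))) (hg.map _) h.r2 (mapc hn) ?_ (mem_map_cent _ a1)
      (le_normalizer_map _ (mem_map_of_mem _ a2)) (map_inf_cent hi F R' ▸ mem_map_cent _ a3))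
    have := hpa.map M.subtype
    rwa [MonoidHom.map_zpowers] at this

end St2

theorem coreS (h5 : M5Stmt.{u}) (hG : G1Stmt.{u}) : CoreS.{u} := by
  intro Γ _ _ p r V R L hM hLV hRL hrL hf hirr hpc
  by_contra ncl
  have gr : ⁅L, R⁆ = L := by
    by_contra e
    have := hpc _ (lt_of_le_of_ne (comm_le_left hRL) e) (right_le_norm_comm _ _)
    rw [coprime_comm_comm hRL (hM.cR ▸ (Nat.Prime.coprime_iff_not_dvd hM.rp).2 hrL)
      (Or.inl (pg_sol hM.rp (pg_of_card_eq hM.cR)))] at this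
    exact ncl this
  have h : St2 p r V R L := ⟨hM, hLV, hRL, hrL, hf, gr, hirr, hpc, gr ▸ ncl⟩
  obtain ⟨Z, -, hZ⟩ := Finite.exists_le_maximal (p := fun Z : Subgroup Γ => Z < L ∧ L ≤ N_(Z) ∧ R ≤ N_(Z))
    (a := ⊥) ⟨bot_lt_iff_ne_bot.2 (ne_bot_of_dvd hM.pp h.pL), le_norm_bot, le_norm_bot⟩
  obtain ⟨hZL, hLZ, hRZ⟩ := hZ.prop
  have h1 : R ≤ C_(Z) := coprime_cent_of_comm hRZ (h.cop hZL.le) (h.sol _) ((h.nz hZL hLZ hRZ).trans (h.caseA h5))
  have h2 := three_subgroup (A := L) (H := R) (K := Z) (by rw [comm_eq_bot.2 h1, commutator_bot_left])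
    (comm_eq_bot.2 ((comm_le_left hLZ).trans (cent_symm h1)))
  rw [gr] at h2
  exact (h.pre h5 hZL.le (cent_symm (comm_eq_bot.1 h2)) (cent_symm h1)
    fun N a b c d => (hZ.eq_of_le ⟨b, c, d⟩ a).symm).false hG

end H22.HM
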