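import Mathlib
import Cfsg.Agent.H06.FV5
import Cfsg.Agent.H22.HM2

/-! General Hall–Higman–Shult theorem, reductions: `autS : CoreS → AutS`, `grp`, `s3041` (namespace `H22.HM`). -/

set_option autoImplicit false
set_option linter.unusedSectionVars false
set_option linter.style.haveILetI false
open Cfsg BG Subgroup
open scoped commutatorElement
universe u
namespace H22.HM
open Cfsg.Agent.H06.FV Cfsg.Agent.H06.HS Cfsg.Agent

variable {Γ : Type u} [Group Γ] [Finite Γ] {p r : ℕ} {L V G R : Subgroup Γ}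

/-- the statement for one group `Q` -/
def Au2 (p r : ℕ) (Q : Type u) [Group Q] : Prop :=
  ∀ (σ : MulAut Q) (L : Subgroup (MulAut Q)), σ ^ r = 1 → (∀ x, σ x = x → x = 1) → σ ∈ N_(L) → ¬ r ∣ Nat.card L →
  PCl p ⁅L, zpowers σ⁆

theorem Au2.img {Q : Type u} [Group Q] [Finite Q] (h : Au2 p r Q) (_ : r.Prime) (ρ : Γ →* MulAut Q) {s : Γ}
    (h1 : s ^ r = 1) (h2 : ∀ x, ρ s x = x → x = 1) (h3 : s ∈ N_(L)) (h4 : ¬ r ∣ Nat.card L) :
    PCl p (⁅L, zpowers s⁆.map ρ) := by
  rw [map_commutator, MonoidHom.map_zpowers]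
  exact h _ _ (by rw [← map_pow, h1, map_one]) h2 (le_normalizer_map ρ (mem_map_of_mem ρ h3))
    fun k => h4 (k.trans (card_map_dvd _ _))

open SemidirectProduct in
theorem autS (hC : CoreS.{u}) : AutS.{u} := by
  intro Q _ _ p r hp p2 hr hQ
  change Au2 p r Q
  induction hn : Nat.card Q using Nat.strong_induction_on generalizing Q with
  | _ n ih =>
  intro σ L
  induction L using WellFoundedLT.induction with
  | ind L ihL =>
  intro h1 h2 h3 h4
  have := Fact.mk hp
  by_cases hU : ∃ U : Subgroup Q, U.Normal ∧ U ≠ ⊥ ∧ U ≠ ⊤ ∧ σ ∈ St U ∧ L ≤ St U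
  · obtain ⟨U, _, U0, U1, sU, LU⟩ := hU
    have k1 : (⟨σ, sU⟩ : St U) ^ r = 1 := Subtype.ext h1
    have k3 : (⟨σ, sU⟩ : St U) ∈ N_(L.subgroupOf (St U)) := mem_norm_of_cj_le fun y hy => by
      obtain ⟨x, hx, rfl⟩ := mem_cj'.1 hy
      exact conj_mem_of_norm (K := L) h3 hx
    have k4 : ¬ r ∣ Nat.card (L.subgroupOf (St U)) := by rwa [Nat.card_congr (subgroupOfEquivOfLe LU).toEquiv]
    have c := U.card_mul_index
    have c1 := one_lt_card U0
    have c2 := one_lt_index_of_ne_top U1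
    have := pull hp (rU U) (rQ U)
      ((ih _ (by nlinarith) U (hQ.to_subgroup U) rfl).img hr _ k1
        (fun x e => Subtype.ext (h2 _ (congrArg Subtype.val e))) k3 k4)
      ((ih _ (by rw [← index_eq_card]; nlinarith) (Q ⧸ U) (hQ.to_quotient U) rfl).img hr _ k1 (fun x e => by
        obtain ⟨x, rfl⟩ := QuotientGroup.mk_surjective x
        rw [rQ_apply, QuotientGroup.eq] at e
        exact (QuotientGroup.eq_one_iff x).2 (S0032.result σ h2 U (fun y => (sU y).2) x e)) k3 k4)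
      fun a e1 e2 => by
        obtain ⟨k, hk⟩ := IsPGroup.iff_card.1 hQ
        refine ⟨k, Subtype.ext (MulEquiv.ext fun x => ?_)⟩
        have m : x⁻¹ * a.1 x ∈ U := QuotientGroup.eq.1 (by rw [← rQ_apply, e2]; rfl)
        have e3 : a.1 (x⁻¹ * a.1 x) = x⁻¹ * a.1 x := by simpa [e1] using (rU_apply U a ⟨_, m⟩).symm
        have : ∀ j : ℕ, (a.1 ^ j) x = x * (x⁻¹ * a.1 x) ^ j := fun j => by
          induction j with
          | zero => simp
          | succ j ij => rw [pow_succ', MulAut.mul_apply, ij, map_mul, map_pow, e3, pow_succ', ← mul_assoc, mul_inv_cancel_left]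
        rw [SubgroupClass.coe_pow, this, ← hk, pow_card_eq_one', mul_one]; rfl
    have := this.map (St U).subtype
    rwa [map_commutator, MonoidHom.map_zpowers, map_subgroupOf_eq_of_le LU] at this
  by_cases s1 : σ = 1
  · have : Subsingleton Q := ⟨fun a b => (h2 a (by simp [s1])).trans (h2 b (by simp [s1])).symm⟩
    have : L = ⊥ := eq_bot_iff.2 fun a _ => MulEquiv.ext fun x => Subsingleton.elim _ _
    exact ⟨⊥, sylow_bot hp (by rw [this, commutator_bot_left, card_bot]; exact hp.not_dvd_one), le_norm_bot⟩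
  have irr : ∀ U : Subgroup Q, U.Normal → σ ∈ St U → L ≤ St U → U = ⊥ ∨ U = ⊤ := fun U a b c => by
    by_contra k
    exact hU ⟨U, a, fun e => k (Or.inl e), fun e => k (Or.inr e), b, c⟩
  have ch : ∀ U : Subgroup Q, U.Characteristic → U = ⊥ ∨ U = ⊤ := fun U hU =>
    have s : ∀ a, a ∈ St U := fun a x => by
      conv_rhs => rw [← hU.fixed a]
      rfl
    irr U inferInstance (s _) fun a _ => s a
  have nt : Nontrivial Q := by
    by_contra k
    have := not_nontrivial_iff_subsingleton.1 k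
    exact s1 (MulEquiv.ext fun x => Subsingleton.elim _ _)
  have ab : ∀ a b : Q, a * b = b * a := fun a b =>
    mem_center_iff.1 (((ch (center Q) inferInstance).resolve_left (by
      have := hQ.center_nontrivial
      exact (nontrivial_iff_ne_bot _).1 this)).ge (mem_top b)) a
  have ex : ∀ a : Q, a ^ p = 1 := by
    let _ : CommGroup Q := { mul_comm := ab }
    have : (powMonoidHom p : Q →* Q).ker = ⊤ := (ch _ ⟨fun φ => by
      ext x; simp [← map_pow]⟩).resolve_left fun e => by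
        obtain ⟨k, hk0, hk⟩ := hQ.nontrivial_iff_card.1 nt
        obtain ⟨g, hg⟩ := exists_prime_orderOf_dvd_card' (G := Q) p (hk ▸ dvd_pow_self p hk0.ne')
        have : g = 1 := e.le (show g ^ p = 1 from hg ▸ pow_orderOf_eq_one g)
        exact hp.one_lt.ne (by rw [← hg, this, orderOf_one])
    exact fun a => this.ge (mem_top a)
  let Γ := Q ⋊[MonoidHom.id (MulAut Q)] MulAut Q
  have : Finite Γ := Finite.of_equiv _ SemidirectProduct.equivProd.symm
  let i : MulAut Q →* Γ := inr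
  let j : Q →* Γ := inl
  have ii : Function.Injective i := inr_injective
  have jj : Function.Injective j := inl_injective
  have cj : ∀ (a : MulAut Q) (x : Q), i a * j x * (i a)⁻¹ = j (a x) := fun a x => by
    rw [← map_inv]; exact (inl_aut (φ := MonoidHom.id _) a x).symm
  have nV : ∀ X : Subgroup (MulAut Q), X.map i ≤ N_(j.range) := fun X => le_norm_iff.2 (by
    rintro _ ⟨a, -, rfl⟩ _ ⟨x, rfl⟩
    exact ⟨_, (cj a x).symm⟩)
  have o : orderOf σ = r := by have := Fact.mk hr; exact orderOf_eq_prime h1 s1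
  have back : ∀ X : Subgroup (MulAut Q), (X.map i).map rightHom = X := fun X => by
    rw [map_map, rightHom_comp_inr, map_id]
  have := hC Γ p r j.range ((zpowers σ).map i) (L.map i) ⟨hp, p2, hr, ⟨abelian_iff.2 (le_cent_iff.2 ?_), ?_⟩,
    by rw [card_map_of_injective ii, card_zpowers, o], nV _, eq_bot_iff.2 ?_⟩ (nV _) (map_norm (zpowers_le.2 h3) i)
    (by rwa [card_map_of_injective ii]) (eq_bot_iff.2 ?_) (fun U hU a b => ?_) fun H hH nH => ?_
  · have := this.map rightHom
    rwa [map_commutator, back, back] at this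
  · rintro _ ⟨a, rfl⟩ _ ⟨b, rfl⟩
    rw [← map_mul, ab, map_mul]
  · rintro _ ⟨a, rfl⟩
    rw [← map_pow, ex, map_one]
  · rintro _ ⟨⟨x, rfl⟩, h⟩
    have := mem_cent.1 h _ ⟨σ, mem_zpowers σ, rfl⟩
    rw [h2 x (jj (by rw [← cj, this, mul_inv_cancel_right])), map_one]; exact one_mem _
  · rw [← Subgroup.map_sup]
    rintro _ ⟨⟨a, -, rfl⟩, h⟩
    rw [show a = 1 from MulEquiv.ext fun x => jj (by rw [← cj, ← mem_cent.1 h _ ⟨x, rfl⟩, mul_inv_cancel_right]; rfl), map_one]
    exact one_mem _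
  · have s : ∀ a, i a ∈ N_(U) → a ∈ St (U.comap j) := fun a h => mem_St fun x hx => by
      rw [mem_comap, ← cj]; exact conj_mem_of_norm h hx
    have e := map_comap_eq_self hU
    rcases irr (U.comap j) ⟨fun x hx g => by rwa [ab g, mul_inv_cancel_right]⟩ (s _ (b ⟨σ, mem_zpowers σ, rfl⟩))
      (fun x hx => s _ (a ⟨x, hx, rfl⟩)) with k | k
    · left; rw [← e, k, Subgroup.map_bot]
    · right; rw [← e, k, MonoidHom.range_eq_map]
  · obtain ⟨H, rfl⟩ : ∃ H' : Subgroup (MulAut Q), H'.map i = H :=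
      ⟨_, map_comap_eq_self (hH.le.trans (map_le_range _ _))⟩
    have l := (map_lt_map_iff_of_injective ii).1 hH
    have n := map_norm nH rightHom
    rw [back, back] at n
    rw [← map_commutator]
    exact (ihL H l h1 h2 (n (mem_zpowers σ)) (not_dvd_of_le h4 l.le)).map i

theorem grp (hA : AutS.{u}) (hp : p.Prime) (hr : r.Prime) (ea : IsElementaryAbelian p V) (cR : Nat.card R = r)
    (RV : R ≤ N_(V)) (GV : G ≤ N_(V)) (RG : R ≤ N_(G)) (rG : ¬ r ∣ Nat.card G) (fpf : V ⊓ C_(R) = ⊥)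
    (fa : (G ⊔ R) ⊓ C_(V) = ⊥) (hO : ∀ N ≤ G, IsPGroup p N → G ≤ N_(N) → R ≤ N_(N) → N = ⊥) :
    ⁅G, R⁆ = ⊥ ∨ ((∃ m : ℕ, r = 2 ^ m + 1) ∧ ¬ IsMulCommutative ↥⁅G, R⁆ ∧ IsSpecial 2 ↥⁅G, R⁆) := by
  have Rp : (Nat.card R).Prime := cR ▸ hr
  have V0 : V ≠ ⊥ := fun e => ne_bot_of_prime Rp (eq_bot_iff.2 ((le_inf le_sup_right (e ▸ le_cent_bot)).trans fa.le))
  have pr : p ≠ r := fun e => pg_fix_ne_bot hp (pg_of_card_eq (cR.trans e.symm)) ea.pg RV V0 fpf
  have key : ∀ (q : ℕ) (X : Subgroup Γ), q.Prime → q ≠ p → X ≤ G → R ≤ N_(X) → IsPGroup q X →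
      (q = 2 → (∃ n : ℕ, r = 2 ^ n + 1) → IsMulCommutative X) → X ≤ C_(R) := fun q X hq qp hX hn hg he => by
    by_cases qr : q = r
    · rw [pg_eq_bot hq hg (qr ▸ not_dvd_of_le rG hX)]; exact bot_le
    by_contra e
    exact S3765.result hp hq hr qp.symm pr qr R X V cR hg hn (inf_eq_bot_of_prime Rp fun e' => e (cent_symm e')) ea V0
      RV (hX.trans GV) (by rw [sup_comm]; exact H22.FK.fmono fa hX) he fpf
  have sR : Group.IsSolvable R := pg_sol hr (pg_of_card_eq cR)
  have cop : (Nat.card R).Coprime (Nat.card G) := cR ▸ (Nat.Prime.coprime_iff_not_dvd hr).2 rG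
  obtain ⟨D, hD, nD⟩ := coprime_sylow_exists Nat.prime_two (Or.inl sR) RG cop
  have l1 : ∀ P, IsSylowIn p P G → R ≤ N_(P) → ⁅P, R⁆ ≤ D → IsPGroup 2 ↥⁅G, R⁆ := fun P hP nP e =>
    pg_le (hD.pg Nat.prime_two) ((l1g hp sR RG cop (fun q X a b c d e f => key q X a c d e f fun k => (b k).elim) hP nP
      hD nD hD.le nD e (comm_le_left nD)).trans (comm_le_left nD))
  have EG : ⁅G, R⁆ ≤ G := comm_le_left RG
  by_cases p2 : p = 2
  · subst p2
    exact Or.inl (hO _ EG (l1 D hD nD (comm_le_left nD)) (left_le_norm_comm _ _) (right_le_norm_comm _ _))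
  have pc : PCl p ⁅G, R⁆ := by
    obtain ⟨s, hs⟩ := cyclic_iff.1 (cyclic_of_prime Rp)
    have sR : s ∈ G ⊔ R := mem_sup_right (hs ▸ mem_zpowers s)
    let f : ↥(G ⊔ R) →* MulAut V := V.normalizerMonoidHom.comp (inclusion (sup_le GV RV))
    have hf : ∀ (x : ↥(G ⊔ R)) (v : V), (f x v : Γ) = x * v * (x : Γ)⁻¹ := fun _ _ => rfl
    have fi : Function.Injective f := (injective_iff_map_eq_one f).2 fun x hx =>
      Subtype.ext (eq_one_of_mem_of_disj fa x.2 (mem_cent.2 fun v hv => by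
        have := hf x ⟨v, hv⟩
        rw [hx] at this
        exact (mul_inv_eq_iff_eq_mul.1 this.symm).symm))
    have := Au2.img (L := G.subgroupOf (G ⊔ R)) (hA V p r hp p2 hr ea.pg) hr f (s := ⟨s, sR⟩)
      (Subtype.ext (show s ^ r = 1 from cR ▸ pow_card_eq_one (hs ▸ mem_zpowers s)))
      (fun v hv => Subtype.ext (eq_one_of_mem_of_disj fpf v.2 (by
        rw [← hs, cent_zpowers]
        exact mem_cent1.2 (mul_inv_eq_iff_eq_mul.1 ((hf _ v).symm.trans (congrArg Subtype.val hv))).symm)))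
      (by haveI := normal_subgroupOf_of_le_normalizer (sup_le_norm_left RG); rw [normalizer_eq_top]; trivial)
      (by rwa [Nat.card_congr (subgroupOfEquivOfLe le_sup_left).toEquiv])
    have := (H29.FC.pcl_of_map fi this).map (G ⊔ R).subtype
    rwa [map_commutator, MonoidHom.map_zpowers, map_subgroupOf_eq_of_le le_sup_left, coe_subtype, hs] at this
  obtain ⟨Q, s, n⟩ := pc
  have Q0 := hO Q (s.le.trans EG) (s.pg hp) ((left_le_norm_comm _ _).trans (s.norm_le n))
    ((right_le_norm_comm _ _).trans (s.norm_le n))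
  obtain ⟨P, hP, nP⟩ := coprime_sylow_exists hp (Or.inl sR) RG cop
  have E2 := l1 P hP nP (by
    rw [pg_eq_bot hp (pg_le (hP.pg hp) (comm_le_left nP)) (not_dvd_of_le (s.not_dvd_of_bot hp Q0) (comm_mono hP.le le_rfl))]
    exact bot_le)
  have EE := coprime_comm_comm RG cop (Or.inl sR)
  refine or_iff_not_imp_left.2 fun E0 => ?_
  have k2 := fun e => E0 (EE.symm.trans (comm_eq_bot.2
    (key 2 _ Nat.prime_two (Ne.symm p2) EG (right_le_norm_comm _ _) E2 e)))
  refine ⟨by_contra fun e => k2 fun _ e' => (e e').elim, fun e => k2 fun _ _ => e,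
    (H22.FK.sp ⟨hp, p2, hr, ea, cR, RV, fpf⟩ (EG.trans GV) (H22.FK.fmono fa EG) E2 (fun e => E0 ?_) EE).1⟩
  exact pg_eq_bot Nat.prime_two E2 (e ▸ not_dvd_of_le rG EG)

theorem special_equiv {A B : Type*} [Group A] [Group B] (e : A ≃* B) (h : IsSpecial p B) : IsSpecial p A := by
  have c : (center B).comap e.toMonoidHom = center A := by
    ext x
    exact ⟨fun hx => mem_center_iff.2 fun g => e.injective (by
      rw [map_mul, map_mul]; exact mem_center_iff.1 hx (e g)), fun hx => mem_center_iff.2 fun g => by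
        obtain ⟨g, rfl⟩ := e.surjective g
        exact (map_mul e g x).symm.trans ((congrArg e (mem_center_iff.1 hx g)).trans (map_mul e x g))⟩
  refine ⟨h.1.of_equiv e.symm, ?_, ?_⟩
  · rw [← c, ← h.2.1]
    refine le_antisymm (frattini_le_comap_frattini_of_surjective e.surjective) fun x hx => ?_
    simpa using frattini_le_comap_frattini_of_surjective (φ := e.symm.toMonoidHom) e.symm.surjective hx
  · rw [← c, ← h.2.2, commutator_def, commutator_def, ← map_top_of_surjective e.toMonoidHom e.surjective,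
      ← map_commutator, comap_map_eq_self_of_injective e.injective]

open SemidirectProduct in
theorem model {X : Type u} [Group X] [Finite X] {k V : Type*} [Field k] [AddCommGroup V] [Module k V]
    (ρ : Representation k X V) {M : Type} [Group M] [Finite M] (φ : Multiplicative V →* M) :
    ∃ (Γ : Type u) (_ : Group Γ) (_ : Finite Γ) (i : X →* Γ) (π : Multiplicative V →* Γ), Function.Injective i ∧
      (∀ (a : X) (w : V), i a * π (.ofAdd w) * (i a)⁻¹ = π (.ofAdd (ρ a w))) ∧ ∀ w, π w = 1 → φ w = 1 := by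
  let ψ : Multiplicative V →* (X → M) :=
    { toFun w a := φ (.ofAdd (ρ a⁻¹ w.toAdd))
      map_one' := funext fun a => by simp
      map_mul' a b := funext fun c => by simp }
  refine ⟨(X → M) ⋊[mulAutArrow] X, inferInstance, Finite.of_equiv _ SemidirectProduct.equivProd.symm, inr,
    inl.comp ψ, inr_injective, fun a w => ?_, fun w e => ?_⟩
  · rw [← map_inv, MonoidHom.comp_apply, MonoidHom.comp_apply, ← inl_aut]
    refine congrArg inl (funext fun c => ?_)
    change φ (.ofAdd (ρ (a⁻¹ * c)⁻¹ w)) = φ (.ofAdd (ρ c⁻¹ (ρ a w)))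
    rw [mul_inv_rev, inv_inv, map_mul]; rfl
  · simpa [ψ] using congrFun (inl_injective (e.trans (map_one inl).symm)) 1

theorem s3041 (hA : AutS.{u}) {X : Type u} [Group X] [Finite X] (G R : Subgroup X) [G.Normal] (hX : G ⊔ R = ⊤) (r : ℕ)
    (hr : r.Prime) (hR : Nat.card R = r) (hcop : ¬ r ∣ Nat.card G)
    {k : Type*} [Field k] {p : ℕ} [Fact p.Prime] [CharP k p] {V : Type*} [AddCommGroup V] [Module k V]
    [FiniteDimensional k V] [Nontrivial V] (ρ : Representation k X V) (hfaith : Function.Injective ρ)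
    (hirr : ∀ W : Submodule k V, (∀ x : X, W.map (ρ x) ≤ W) → W = ⊥ ∨ W = ⊤)
    (hfix : ∀ v : V, (∀ x ∈ R, ρ x v = v) → v = 0) :
    ⁅G, R⁆ = ⊥ ∨ ((∃ m : ℕ, r = 2 ^ m + 1) ∧ ¬ IsMulCommutative ↥⁅G, R⁆ ∧ Cfsg.IsSpecial 2 ↥⁅G, R⁆) := by
  have hp : p.Prime := Fact.out
  letI := ZMod.algebra k p
  letI : Module (ZMod p) V := Module.compHom V (algebraMap (ZMod p) k)
  obtain ⟨v, hv⟩ := exists_ne (0 : V)
  obtain ⟨φ, hφ⟩ := not_forall.1 (mt (Module.forall_dual_apply_eq_zero_iff (ZMod p) v).1 hv)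
  obtain ⟨Γ, _, _, i, π, ii, cj, hπ⟩ := model ρ (AddMonoidHom.toMultiplicative φ.toAddMonoidHom)
  have nV : ∀ Y : Subgroup X, Y.map i ≤ N_(π.range) := fun Y => le_norm_iff.2 (by
    rintro _ ⟨a, -, rfl⟩ _ ⟨w, rfl⟩
    exact ⟨_, (cj a w.toAdd).symm⟩)
  have pv : π (.ofAdd v) ≠ 1 := fun e => hφ (hπ _ e)
  -- the commutator space of a normal subgroup
  have sp : ∀ N : Subgroup X, N.Normal → N = ⊥ ∨ π.range ≤ ⁅π.range, N.map i⁆ := fun N hN => by
    let W : Submodule k V :=
      { toAddSubmonoid := AddSubmonoid.closure {w | ∃ n ∈ N, ∃ y, w = y - ρ n y}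
        smul_mem' c w hw := AddSubmonoid.closure_induction (by
          rintro _ ⟨n, hn, y, rfl⟩
          exact AddSubmonoid.subset_closure ⟨n, hn, c • y, by rw [map_smul, smul_sub]⟩)
          (by rw [smul_zero]; exact AddSubmonoid.zero_mem _)
          (fun a b _ _ ha hb => by rw [smul_add]; exact AddSubmonoid.add_mem _ ha hb) hw }
    refine (hirr W fun x => ?_).imp (fun e => eq_bot_iff.2 fun n hn => hfaith (LinearMap.ext fun y => ?_)) fun e => ?_
    · rintro _ ⟨w, hw, rfl⟩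
      refine AddSubmonoid.closure_induction ?_ (by rw [map_zero]; exact zero_mem W)
        (fun a b _ _ ha hb => by rw [map_add]; exact add_mem ha hb) hw
      rintro _ ⟨n, hn, y, rfl⟩
      exact AddSubmonoid.subset_closure ⟨_, hN.conj_mem n hn x, ρ x y, by simp [map_sub]⟩
    · have : y - ρ n y ∈ W := AddSubmonoid.subset_closure ⟨n, hn, y, rfl⟩
      rw [e, Submodule.mem_bot, sub_eq_zero] at this
      rw [map_one]; exact this.symm
    · rintro _ ⟨w, rfl⟩
      have : w.toAdd ∈ W := e ▸ Submodule.mem_top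
      change π (.ofAdd w.toAdd) ∈ _
      refine AddSubmonoid.closure_induction (motive := fun w _ => π (.ofAdd w) ∈ ⁅π.range, N.map i⁆) ?_
        (by rw [ofAdd_zero, map_one]; exact one_mem _)
        (fun a b _ _ ha hb => by rw [ofAdd_add, map_mul]; exact mul_mem ha hb) this
      rintro _ ⟨n, hn, y, rfl⟩
      have := commutator_mem_commutator (H₁ := π.range) ⟨.ofAdd y, rfl⟩ (mem_map_of_mem i hn)
      rwa [commutatorElement_def, mul_assoc, mul_assoc, ← map_inv, ← ofAdd_neg, ← mul_assoc (i n), cj, ← map_mul,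
        ← ofAdd_add, map_neg, ← sub_eq_add_neg] at this
  have V0 : π.range ≠ ⊥ := ne_bot_of_mem ⟨_, rfl⟩ pv
  have ea : IsElementaryAbelian p π.range := ⟨abelian_iff.2 (le_cent_iff.2 (by
    rintro _ ⟨a, rfl⟩ _ ⟨b, rfl⟩
    rw [← map_mul, mul_comm, map_mul])), by
      rintro _ ⟨a, rfl⟩
      rw [← map_pow, show a ^ p = 1 from ?_, map_one]
      change p • a.toAdd = 0
      rw [← Nat.cast_smul_eq_nsmul k, CharP.cast_eq_zero, zero_smul]⟩
  have Rp : (Nat.card R).Prime := hR ▸ hr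
  obtain ⟨s, hs⟩ := cyclic_iff.1 (cyclic_of_prime Rp)
  have := grp (G := G.map i) (R := R.map i) hA hp hr ea (by rw [card_map_of_injective ii, hR]) (nV R) (nV G)
    (map_norm (by rw [normalizer_eq_top]; exact le_top) i) (by rwa [card_map_of_injective ii]) ?_ ?_ ?_
  · rw [← map_commutator, map_eq_bot_iff_of_injective _ ii] at this
    exact this.imp id fun ⟨a, b, c⟩ => ⟨a, fun e => b inferInstance, special_equiv (equivMapOfInjective _ i ii) c⟩
  · have su : Function.Surjective (1 - ρ s : Module.End k V) :=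
      LinearMap.injective_iff_surjective.1 ((injective_iff_map_eq_zero _).2 fun y hy => hfix y fun x hx => by
        have e : ρ s y = y := (sub_eq_zero.1 hy).symm
        obtain ⟨j, rfl⟩ := mem_powers_iff_mem_zpowers.2 (hs ▸ hx : x ∈ zpowers s)
        induction j with
        | zero => simp
        | succ j ih => dsimp only at ih ⊢; rw [pow_succ, map_mul, Module.End.mul_apply, e, ih (hs ▸ pow_mem (mem_zpowers s) j)])
    have sR : i s ∈ R.map i := mem_map_of_mem i (hs ▸ mem_zpowers s)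
    let f : π.range → π.range := fun x => x * (⟨_, conj_mem_of_norm (nV R sR) x.2⟩ : π.range)⁻¹
    have fs : Function.Surjective f := by
      rintro ⟨_, w, rfl⟩
      obtain ⟨y, hy⟩ := su w.toAdd
      refine ⟨⟨_, .ofAdd y, rfl⟩, Subtype.ext ?_⟩
      change π (.ofAdd y) * (i s * π (.ofAdd y) * (i s)⁻¹)⁻¹ = π (.ofAdd w.toAdd)
      rw [cj, ← map_inv, ← map_mul, ← ofAdd_neg, ← ofAdd_add, ← sub_eq_add_neg, ← hy]; rfl
    refine eq_bot_iff.2 fun x hx => congrArg Subtype.val
      (Finite.injective_iff_surjective.2 fs (a₁ := ⟨x, hx.1⟩) (a₂ := 1) (Subtype.ext ?_))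
    change x * (i s * x * (i s)⁻¹)⁻¹ = 1 * (i s * 1 * (i s)⁻¹)⁻¹
    rw [mem_cent.1 hx.2 _ sR]; group
  · rw [← Subgroup.map_sup, hX, eq_bot_iff]
    refine (sp (C_(π.range).comap i) ⟨fun n hn g => ?_⟩).elim (fun e => ?_) fun e => ?_
    rotate_left
    · rintro _ ⟨⟨x, -, rfl⟩, hx⟩
      rw [mem_bot.1 (e.le hx), map_one]; exact one_mem _
    · rw [comm_eq_bot.2 (cent_symm (map_comap_le _ _))] at e
      exact (V0 (eq_bot_iff.2 e)).elim
    · simpa using conj_mem_of_norm (norm_cent (nV ⊤) (mem_map_of_mem i (mem_top g))) hn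
  · intro N hN hg h1 h2
    obtain ⟨N, rfl⟩ : ∃ N' : Subgroup X, N'.map i = N := ⟨_, map_comap_eq_self (hN.trans (map_le_range _ _))⟩
    refine (sp N ⟨fun n hn g => ?_⟩).elim (fun e => ?_) fun e => ?_
    rotate_left
    · rw [e, Subgroup.map_bot]
    · exact absurd e (nil_comm_lt (nV N) (pg_nil hp (pg_sup ea.pg hg (nV N))) V0).not_ge
    · have := conj_mem_of_norm (sup_le h1 h2 (by rw [← Subgroup.map_sup, hX]; exact mem_map_of_mem i (mem_top g)))
        (mem_map_of_mem i hn)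
      rwa [← map_inv, ← map_mul, ← map_mul, mem_map_iff_mem ii] at this

end H22.HM
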