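import Mathlib

/-!
# Normalisers modulo a central subgroup of exponent three
-/

set_option autoImplicit false

namespace H22.LpF
open Subgroup

universe u

theorem f : ∀ (R X : Type u) [Group R] [Group X] [IsSimpleGroup X] (π : R →* X), Function.Surjective π →
  (∀ z, π z = 1 → z ∈ center R ∧ z ^ 3 = 1) → ∀ (P Y : Subgroup R) (p : ℕ), p.Coprime 3 → (∀ x ∈ P, x ^ p = 1) → P ≠ ⊥ → P ≤ Y →
    normalizer (P : Set R) ≤ normalizer (Y : Set R) → Y.map π ≠ ⊤ → ¬ Y ≤ normalizer (P : Set R) →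
      ¬ IsCoatom (normalizer ((P.map π : Subgroup X) : Set X)) := by
  intro R X _ _ _ π hs hk P Y p hp hP P0 PY hN hY hY' hc
  have one : ∀ z : R, z ^ p = 1 → z ^ 3 = 1 → z = 1 := fun z a b =>
    (pow_gcd_eq_one.2 ⟨a, b⟩ : z ^ p.gcd 3 = 1) |> fun e => by rwa [hp.gcd_eq_one, pow_one] at e
  have A : ∀ g, π g ∈ normalizer ((P.map π : Subgroup X) : Set X) → ∀ x ∈ P, g * x * g⁻¹ ∈ P := fun g hg x hx => by
    obtain ⟨y, hy, e⟩ := (mem_normalizer_iff.1 hg (π x)).1 (mem_map_of_mem π hx)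
    obtain ⟨c, c3⟩ := hk (y⁻¹ * (g * x * g⁻¹)) (by rw [map_mul, map_inv, e, map_mul, map_mul, map_inv, inv_mul_cancel])
    have cm : Commute y (y⁻¹ * (g * x * g⁻¹)) := mem_center_iff.1 c y
    have := cm.mul_pow p
    rw [mul_inv_cancel_left, conj_pow, hP x hx, hP y hy, mul_one, mul_inv_cancel, one_mul] at this
    rwa [← inv_mul_eq_one.1 (one _ this.symm c3)]
  have B : ∀ g, π g ∈ normalizer ((P.map π : Subgroup X) : Set X) → g ∈ normalizer (P : Set R) := fun g hg =>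
    mem_normalizer_iff.2 fun x => ⟨A g hg x, fun hx => by
      simpa [mul_assoc] using A g⁻¹ (by rw [map_inv]; exact inv_mem hg) _ hx⟩
  have le : normalizer ((P.map π : Subgroup X) : Set X) ≤ normalizer ((Y.map π : Subgroup X) : Set X) := fun x hx => by
    obtain ⟨g, rfl⟩ := hs x
    exact le_normalizer_map π (mem_map_of_mem π (hN (B g hx)))
  obtain ⟨y, hy, y1⟩ := SetLike.not_le_iff_exists.1 hY'
  have t := hc.2 _ (lt_of_le_of_ne le fun e => y1 (B y (e ▸ le_normalizer (mem_map_of_mem π hy))))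
  rcases (normalizer_eq_top_iff.1 t).eq_bot_or_eq_top with e | e
  · refine P0 (eq_bot_iff.2 fun x hx => one x (hP x hx) (hk x ?_).2)
    exact mem_bot.1 (e.le (mem_map_of_mem π (PY hx)))
  · exact hY e

end H22.LpF
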