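import Cfsg.Agent.H22.Su11
import Cfsg.Agent.H22.Sl47a

/-!
# Overgroups of the orthogonal subfield subgroup of `SU₄(q)`: the block property
-/

set_option autoImplicit false

namespace H22.Su

open Module H10 H10.Form

variable {F V : Type*} [Field F] [AddCommGroup V] [Module F V] {φ : Form F V}
  [φ.Nondeg] [FiniteDimensional F V] [Finite F]

/-- an orthogonal rational structure of rank `4` and an overgroup of its special stabiliser -/
structure R4 (φ : Form F V) [φ.Nondeg] [FiniteDimensional F V] (K : Subfield F) (L : Submodule K V)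
    (M : Subgroup φ.Isom) (θ : F) : Prop where
  rat : φ.RatS K L
  dim : finrank F V = 4
  herm : φ.IsHerm
  two : (2 : F) ≠ 0
  fix : ∀ a, a ∈ K ↔ φ.σ a = a
  θ0 : θ ≠ 0
  θσ : φ.σ θ = -θ
  big : ∃ t ∈ K, t ≠ 0 ∧ t * t ≠ 1
  le : M ≤ φ.SIsom
  mem : ∀ k ∈ φ.SIsom, ∀ c : F, c ≠ 0 → (∀ x ∈ L, c • k.1 x ∈ L) → k ∈ M

namespace R4
variable {K : Subfield F} {L : Submodule K V} {M : Subgroup φ.Isom} {θ : F} (h : R4 φ K L M θ)
  {p u w z y a b f : V} {s c t : F} {g k : φ.Isom}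
include h

omit [Finite F] in
theorem sg (hp : φ.Q p = 0) (hw : φ.B p w = 0) (hs : φ.T s = φ.Q w) (x : V) :
    (φ.siegel p w s).1 x = x + φ.B w x • p - φ.B p x • w - (s * φ.B p x) • p := by
  rw [φ.siegel_apply hp hw hs, h.herm.ε_eq, one_mul, one_mul]

omit [Finite F] in
theorem skew0 (hc : c ∈ K) (h1 : φ.σ c = -c) : c = 0 := by
  have := (h.fix c).1 hc
  exact (mul_eq_zero.1 (show 2 * c = 0 by linear_combination h1 - this)).resolve_left h.two

omit [Finite F] in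
theorem z2 {a d : F} (ha : a ∈ K) (hd : d ∈ K) (e : a + θ * d = 0) : a = 0 ∧ d = 0 := by
  have h1 : θ * d = 0 := h.skew0 (by rw [show θ * d = -a by linear_combination e]; exact K.neg_mem ha)
    (by rw [map_mul, h.θσ, (h.fix d).1 hd, neg_mul])
  exact ⟨by linear_combination e - h1, (mul_eq_zero.1 h1).resolve_left h.θ0⟩

omit [Finite F] in
theorem dec (v : V) : ∃ a ∈ L, ∃ b ∈ L, v = a + θ • b := by
  have h2 := h.two
  have h0 := h.θ0
  let A : Submodule F V :=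
    { carrier := {x | ∃ a ∈ L, ∃ b ∈ L, x = a + θ • b}
      zero_mem' := ⟨0, L.zero_mem, 0, L.zero_mem, by simp⟩
      add_mem' := by
        rintro _ _ ⟨a, ha, b, hb, rfl⟩ ⟨a', ha', b', hb', rfl⟩
        exact ⟨_, L.add_mem ha ha', _, L.add_mem hb hb', by module⟩
      smul_mem' := by
        rintro c _ ⟨a, ha, b, hb, rfl⟩
        have h1 : (c + φ.σ c) / 2 ∈ K := (h.fix _).2 (by simp [map_ofNat, add_comm])
        have h3 : (c - φ.σ c) / (2 * θ) ∈ K := (h.fix _).2 (by simp [map_ofNat, h.θσ]; field_simp; ring)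
        have h4 : θ * θ ∈ K := (h.fix _).2 (by simp [h.θσ])
        refine ⟨_, L.add_mem (RatS.smul_mem h1 ha) (RatS.smul_mem (K.mul_mem h4 h3) hb), _,
          L.add_mem (RatS.smul_mem h3 ha) (RatS.smul_mem h1 hb), ?_⟩
        match_scalars <;> field_simp <;> ring }
  exact h.rat.mem_of_le (A := A) (fun x hx => ⟨x, hx, 0, L.zero_mem, by simp⟩) v

omit [Finite F] in
theorem comm (hx : u ∈ L) (hy : w ∈ L) : φ.B u w = φ.B w u := by
  rw [h.herm.B_comm w u, (h.fix _).1 (h.rat.B_mem _ hy _ hx)]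

omit [Finite F] in
theorem half (hu : u ∈ L) : φ.Q u / 2 ∈ K ∧ φ.T (φ.Q u / 2) = φ.Q u := by
  have h1 := K.div_mem (h.rat.Q_mem u hu) (ofNat_mem K 2)
  refine ⟨h1, ?_⟩
  have := h.two
  rw [h.herm.T_eq, (h.fix _).1 h1]; field_simp; ring

omit [Finite F] in
theorem sgm0 (hp : p ∈ L) (hw : w ∈ L) (hs : s ∈ K) (a1 : φ.Q p = 0) (a2 : φ.B p w = 0) (a3 : φ.T s = φ.Q w) :
    φ.siegel p w s ∈ M := h.mem _ (φ.mem_SIsom.2 (φ.det_siegel a1 a2 a3)) 1 one_ne_zero fun x hx => by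
  rw [one_smul, h.sg a1 a2 a3]
  exact sub_mem (sub_mem (add_mem hx (RatS.smul_mem (h.rat.B_mem _ hw _ hx) hp))
    (RatS.smul_mem (h.rat.B_mem _ hp _ hx) hw)) (RatS.smul_mem (K.mul_mem hs (h.rat.B_mem _ hp _ hx)) hp)

omit [Finite F] in
theorem sgm (hp : p ∈ L) (hu : u ∈ L) (hQ : φ.Q p = 0) (h0 : φ.B p u = 0) : φ.siegel p u (φ.Q u / 2) ∈ M :=
  h.sgm0 hp hu (h.half hu).1 hQ h0 (h.half hu).2

omit [Finite F] in
theorem rr (hu : u ∈ L) (hz : z ∈ L) (u0 : φ.B u u ≠ 0) (z0 : φ.B z z ≠ 0) : ∃ k ∈ M, ∀ x, k.1 x =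
    x - (2 / φ.B z z * φ.B z x) • z - (2 / φ.B u u * (φ.B u x - 2 / φ.B z z * φ.B z x * φ.B u z)) • u := by
  have c : ∀ u ∈ L, φ.B u u ≠ 0 → φ.T (φ.ε * -(2 / φ.B u u)) + φ.σ (-(2 / φ.B u u)) * -(2 / φ.B u u) * φ.Q u = 0 :=
    fun u hu u0 => by
      simp only [h.herm.ε_eq, h.herm.T_eq, h.herm.Q_eq, one_mul, map_neg, map_div₀, map_ofNat, h.herm.σ_B]
      field_simp
      ring
  have e : ∀ x, (φ.quasi u (-(2 / φ.B u u)) * φ.quasi z (-(2 / φ.B z z))).1 x =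
      x - (2 / φ.B z z * φ.B z x) • z - (2 / φ.B u u * (φ.B u x - 2 / φ.B z z * φ.B z x * φ.B u z)) • u := fun x => by
    rw [Isom.mul_apply, φ.quasi_apply (c u hu u0), φ.quasi_apply (c z hz z0), map_add, map_smul, smul_eq_mul]
    module
  refine ⟨_, h.mem _ (φ.mem_SIsom.2 ?_) 1 one_ne_zero fun x hx => ?_, e⟩
  · rw [Subgroup.coe_mul, LinearEquiv.coe_toLinearMap_mul, map_mul, φ.det_quasi (c u hu u0), φ.det_quasi (c z hz z0)]
    field_simp
    ring
  · have m := h.rat.B_mem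
    have i := K.mul_mem (K.div_mem (ofNat_mem K 2) (m _ hz _ hz)) (m _ hz _ hx)
    rw [one_smul, e]
    exact sub_mem (sub_mem hx (RatS.smul_mem i hz)) (RatS.smul_mem (K.mul_mem (K.div_mem (ofNat_mem K 2) (m _ hu _ hu))
      (K.sub_mem (m _ hu _ hx) (K.mul_mem i (m _ hu _ hz)))) hu)

theorem pl (ha : a ∈ L) (hb : b ∈ L) (d : φ.B a a * φ.B b b - φ.B a b * φ.B a b ≠ 0) : ∃ u ∈ L, ∃ w ∈ L,
    φ.B a u = 0 ∧ φ.B b u = 0 ∧ φ.B a w = 0 ∧ φ.B b w = 0 ∧ φ.B u w = 0 ∧ φ.B u u ≠ 0 ∧ φ.B w w ≠ 0 ∧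
      ∀ z ∈ L, φ.B a z = 0 → φ.B b z = 0 → ∃ α ∈ K, ∃ β ∈ K, z = α • u + β • w := by
  have := RatS.finiteDim (L := L)
  let B : L →ₗ[K] L →ₗ[K] K := LinearMap.mk₂ K (fun x y => h.rat.form.B x y) (by simp)
    (fun c x y => Subtype.ext (by simp [(h.fix _).1 c.2])) (by simp) (by simp)
  have hB : ∀ x y, (B x y : F) = φ.B x y := fun _ _ => rfl
  have sf : Sl4.SF B := ⟨fun e => h.two (congrArg Subtype.val e), fun x y => Subtype.ext (h.comm x.2 y.2),
    h.rat.nondeg.eq_zero⟩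
  lift a to L using ha
  lift b to L using hb
  replace d : B a a * B b b - B a b * B a b ≠ 0 := fun e => d (congrArg Subtype.val e)
  obtain ⟨i, hi⟩ : ∃ i, i * (B a a * B b b - B a b * B a b) = 1 := ⟨_, inv_mul_cancel₀ d⟩
  let P := (B a).prod (B b)
  have hP : Function.Surjective P := fun ⟨s, t⟩ =>
    ⟨((s * B b b - t * B a b) * i) • a + ((t * B a a - s * B a b) * i) • b, Prod.ext (by
      show B a _ = s
      simp only [map_add, map_smul, smul_eq_mul]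
      linear_combination s * hi) (by
      show B b _ = t
      simp only [map_add, map_smul, smul_eq_mul, sf.sy b a]
      linear_combination t * hi)⟩
  have e := P.finrank_range_add_finrank_ker
  rw [LinearMap.range_eq_top.2 hP, finrank_top, h.rat.rank, h.dim, finrank_prod, finrank_self] at e
  have m : ∀ x, x ∈ LinearMap.ker P ↔ B a x = 0 ∧ B b x = 0 := fun x => by simp [P, Prod.ext_iff]
  obtain ⟨e, e1, e2, e3, e4⟩ := sf.ob (LinearMap.ker P) (fun x hx q => sf.nd x fun y => by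
    have hx' := (m x).1 hx
    have := q (y - ((B a y * B b b - B b y * B a b) * i) • a - ((B b y * B a a - B a y * B a b) * i) • b) ((m _).2 (by
        simp only [map_sub, map_smul, smul_eq_mul, sf.sy b a]
        exact ⟨by linear_combination (-B a y) * hi, by linear_combination (-B b y) * hi⟩))
    simpa [sf.sy x a, sf.sy x b, hx'.1, hx'.2] using this) (n := 2) (by omega)
  refine ⟨e 0, (e 0).2, e 1, (e 1).2, congrArg Subtype.val ((m _).1 (e1 0)).1, congrArg Subtype.val ((m _).1 (e1 0)).2,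
    congrArg Subtype.val ((m _).1 (e1 1)).1, congrArg Subtype.val ((m _).1 (e1 1)).2,
    congrArg Subtype.val (e2 0 1 (by decide)), fun q => e3 0 (Subtype.ext q), fun q => e3 1 (Subtype.ext q),
    fun z hz a1 a2 => ?_⟩
  obtain ⟨c, hc⟩ := e4 ⟨z, hz⟩ ((m _).2 ⟨Subtype.ext a1, Subtype.ext a2⟩)
  rw [Fin.sum_univ_two] at hc
  exact ⟨c 0, (c 0).2, c 1, (c 1).2, congrArg Subtype.val hc⟩

omit [Finite F] in
theorem allt (hp : p ∈ L) (hf : f ∈ L) (hyp : φ.IsHyp p f) (ht : φ.T t = 0) (t0 : t ≠ 0) (h1 : φ.siegel p 0 t ∈ M)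
    (hs : φ.T s = 0) : φ.siegel p 0 s ∈ M := by
  have h2 := h.two
  have sk : ∀ {s}, φ.T s = 0 → φ.σ s = -s := fun hs => by rw [h.herm.T_eq] at hs; exact eq_neg_of_add_eq_zero_right hs
  have T0 : ∀ l ∈ K, φ.T (l * t) = φ.Q 0 := fun l hl => by simp [h.herm.T_eq, (h.fix l).1 hl, sk ht]
  have H : ∀ l ∈ K, φ.siegel p 0 (l * l * t) ∈ M := fun l hl => by
    by_cases l0 : l = 0
    · rw [l0, zero_mul, zero_mul, φ.siegel_zero hyp.Qe]; exact M.one_mem
    have e := (h.fix l).1 hl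
    have := siegel_conj_mem (g := φ.rot p f l) (h.mem _ (φ.mem_SIsom.2 (by rw [φ.det_rot hyp l0, e, mul_inv_cancel₀ l0])) 1
      one_ne_zero fun x hx => by
        rw [one_smul, φ.rot_apply hyp l0, e, h.herm.ε_eq, mul_one]
        exact add_mem (add_mem hx (RatS.smul_mem (K.mul_mem (K.sub_mem hl K.one_mem) (h.rat.B_mem _ hf _ hx)) hp))
          (RatS.smul_mem (K.mul_mem (K.sub_mem (K.inv_mem hl) K.one_mem) (h.rat.B_mem _ hp _ hx)) hf))
      hyp.Qe (by simp) (by simpa using ht) h1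
    rwa [map_zero, φ.rot_apply_e hyp l0, siegel_smul hyp.Qe (by simp) (by simpa using ht), smul_zero, e] at this
  have c : s / t / 2 ∈ K := (h.fix _).2 (by simp [map_ofNat, sk hs, sk ht])
  have c1 := K.add_mem c K.one_mem
  have a := M.mul_mem (H _ c) h1
  rw [φ.siegel_mul hyp.Qe (by simp) (T0 _ (K.mul_mem c c)) (by simp) (by simpa using ht)] at a
  have b := M.mul_mem (H _ c1) (M.inv_mem a)
  convert b using 1
  rw [eq_mul_inv_iff_mul_eq, add_zero, φ.siegel_mul hyp.Qe (by simp) (by simpa using hs) (by simp)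
    (by simpa [add_mul] using T0 _ (K.add_mem (K.mul_mem c c) K.one_mem)), add_zero]
  congr 1
  simp only [map_zero, add_zero]
  field_simp
  ring

variable (hE : ¬ φ.E ≤ M)
include hE

theorem hZ (hp : p ∈ L) (hQ : φ.Q p = 0) (p0 : p ≠ 0) (ht : φ.T t = 0) (h1 : φ.siegel p 0 t ∈ M) : t = 0 := by
  by_contra t0
  have h2 := h.two
  have θ0 := h.θ0
  obtain ⟨f, hf, hyp⟩ := h.rat.exists_partner hp hQ p0
  have fp : φ.B f p = 1 := hyp.Bfe.trans h.herm.ε_eq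
  have hyp' : φ.IsHyp f p := ⟨hyp.Qf, hyp.Qe, fp⟩
  obtain ⟨u, hu, -, -, u1, u2, -, -, -, u0, -⟩ := h.pl hp hf (by simp [hyp.Bee, hyp.Bef])
  have q : φ.B (p + f) (p + f) = 2 := by simp [hyp.Bee, hyp.Bef, hyp.Bff, fp, one_add_one_eq_two]
  obtain ⟨k, hk, e⟩ := h.rr hu (add_mem hp hf) u0 (by rw [q]; exact h2)
  have X : ∀ s, φ.T s = 0 → φ.siegel p 0 s ∈ M := fun s => h.allt hp hf hyp ht t0 h1
  have Y : ∀ s, φ.T s = 0 → φ.siegel f 0 s ∈ M := fun s hs => by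
    have := siegel_conj_mem hk hQ (by simp) (by simpa using hs) (X s hs)
    rwa [map_zero, show k.1 p = (-1 : F) • f by
      rw [e, q]; simp [hyp.Bee, fp, φ.B_symm_zero u1, φ.B_symm_zero u2, h2],
      siegel_smul hyp.Qf (by simp) (by simpa using hs), smul_zero, map_neg, map_one, neg_mul_neg, one_mul, one_mul] at this
  have T1 : φ.T θ = 0 := by simp [h.herm.T_eq, h.θσ]
  have T2 : φ.T (-θ⁻¹) = 0 := by simp [h.herm.T_eq, h.θσ, inv_neg]
  have A : ∀ y, φ.B f y = 0 → φ.B p y = 0 → InA M f y := fun y y1 y2 => by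
    obtain ⟨a, ha, b, hb, rfl⟩ := h.dec y
    obtain ⟨a1, b1⟩ := h.z2 (h.rat.B_mem _ hf _ ha) (h.rat.B_mem _ hf _ hb) (by simpa using y1)
    obtain ⟨a2, b2⟩ := h.z2 (h.rat.B_mem _ hp _ ha) (h.rat.B_mem _ hp _ hb) (by simpa using y2)
    have i := InA.map hQ (u := b) ⟨b2, _, (h.half hb).2, h.sgm hp hb hQ b2⟩ (M.mul_mem (X _ T2) (Y _ T1))
    simp only [Isom.mul_apply, h.sg hQ (map_zero _) (show φ.T (-θ⁻¹) = φ.Q 0 by simpa using T2),
      h.sg hyp.Qf (map_zero _) (show φ.T θ = φ.Q 0 by simpa using T1), b1, b2, fp, map_zero, LinearMap.zero_apply,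
      zero_smul, smul_zero, add_zero, sub_zero, mul_zero, map_sub, map_smul, hyp.Bee, hyp.Bef, mul_one] at i
    rw [show p - θ • f - (-θ⁻¹ * (0 - θ • (1 : F))) • p = (-θ) • f by simp [θ0]] at i
    have j := InA.of_smul hyp.Qf (neg_ne_zero.2 θ0) i
    rw [map_neg, h.θσ, neg_neg] at j
    exact add_mem (show a ∈ AS M hyp.Qf from ⟨a1, _, (h.half ha).2, h.sgm hf ha hyp.Qf a1⟩) (show _ ∈ AS M hyp.Qf from j)
  have Z : φ.Full M f := full_of_le_sgSub' (hp := hyp.Qf) (hX := Y) hyp' fun y hy =>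
    have := φ.mem_perp_pair.1 hy
    ⟨this.1, fun c => (A _ (by simp [this.1]) (by simp [this.2])).2⟩
  refine hE (Z.E_le hyp.Qf (X _ T1) ?_)
  rw [h.sg hQ (map_zero _) (show φ.T θ = φ.Q 0 by simpa using T1)]
  simp [hyp.Bff, hyp.Bef, fp, θ0]

theorem hU (hp : p ∈ L) (hQ : φ.Q p = 0) (p0 : p ≠ 0) (hu : InA M p u) : ∃ d : F, u + d • p ∈ L :=
  h.rat.exists_add_mem hp hQ fun x hx h1 => by
    obtain ⟨b1, s, b2, b3⟩ := hu
    have c3 := h.sgm hp hx hQ h1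
    have := h.hZ hE hp hQ p0 (t := φ.B u x - φ.B x u) (by simp [h.herm.T_eq, h.herm.σ_B]) (by
      rw [← siegel_commutator hQ b1 b2 h1 (h.half hx).2]
      exact M.mul_mem (M.mul_mem (M.mul_mem b3 c3) (M.inv_mem b3)) (M.inv_mem c3))
    exact (h.fix _).2 (by rw [h.herm.σ_B]; exact (sub_eq_zero.1 this).symm)

theorem ratU (hp : p ∈ L) (hQ : φ.Q p = 0) (p0 : p ≠ 0) (h1 : φ.B p u = 0) (h2 : φ.T s = φ.Q u) (h3 : φ.σ s = s)
    (h4 : φ.siegel p u s ∈ M) : u ∈ L := by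
  obtain ⟨d, hd⟩ := h.hU hE hp hQ p0 ⟨h1, s, h2, h4⟩
  have q1 : φ.B p (u + d • p) = 0 := by simp [h1, φ.B_self_eq_zero hQ]
  have q2 : φ.Q (u + d • p) = φ.Q u := by
    rw [φ.Q_add_of_orth (by simp [φ.B_symm_zero h1]), φ.Q_smul_of_sing hQ, add_zero]
  have q3 : φ.T (d - φ.σ d) = 0 := by simp [h.herm.T_eq]
  have q4 := h.sgm0 hp hd ((h.fix s).2 h3) hQ q1 (h2.trans q2.symm)
  have q5 := h.hZ hE hp hQ p0 q3 (by
    convert M.mul_mem q4 (M.inv_mem h4) using 1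
    rw [eq_mul_inv_iff_mul_eq]
    refine Isom.ext fun x => ?_
    rw [Isom.mul_apply, h.sg hQ (by simp) (by simpa using q3), h.sg hQ h1 h2, h.sg hQ q1 (h2.trans q2.symm)]
    simp [h1, φ.B_self_eq_zero hQ]
    module)
  simpa using L.sub_mem hd (RatS.smul_mem ((h.fix d).2 (sub_eq_zero.1 q5).symm) hp)

theorem pt1 (hk : k ∈ M) (hp : p ∈ L) (hQ : φ.Q p = 0) (p0 : p ≠ 0) (c0 : c ≠ 0) (e : c • k.1 p ∈ L) (hu : u ∈ L)
    (h1 : φ.B p u = 0) : c • k.1 u ∈ L := by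
  have h2 := siegel_conj_mem hk hQ h1 (h.half hu).2 (h.sgm hp hu hQ h1)
  have q1 : φ.Q (c • k.1 p) = 0 := φ.Q_smul_of_sing (by simpa using hQ) c
  have q2 : φ.B (c • k.1 p) (k.1 u) = 0 := by simp [h1]
  have q3 : φ.T (φ.Q u / 2) = φ.Q (k.1 u) := by simpa using (h.half hu).2
  rw [show k.1 p = c⁻¹ • c • k.1 p by rw [inv_smul_smul₀ c0], siegel_smul q1 q2 q3] at h2
  have h3 := h.ratU hE e q1 (by simpa [c0] using p0) (by simp [h1]) (by simpa [mul_comm] using T_smul q3 (φ.σ c⁻¹))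
    (by simp only [map_mul, σ_σ, (h.fix _).1 (h.half hu).1]; ring) h2
  have h4 : φ.σ c ≠ 0 := by simpa using c0
  convert RatS.smul_mem ((h.fix (φ.σ c * c)).2 (by simp [mul_comm])) h3 using 1
  rw [smul_smul, map_inv₀]
  congr 1
  field_simp

theorem pt (hk : k ∈ M) (hp : p ∈ L) (hQ : φ.Q p = 0) (p0 : p ≠ 0) (c0 : c ≠ 0) (e : c • k.1 p ∈ L) :
    ∀ x ∈ L, c • k.1 x ∈ L := by
  obtain ⟨f, hf, hyp⟩ := h.rat.exists_partner hp hQ p0
  have h2 := h.two
  have s0 : φ.σ c ≠ 0 := by simpa using c0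
  have q1 : φ.Q (c • k.1 p) = 0 := φ.Q_smul_of_sing (by simpa using hQ) c
  have q0 : c • k.1 p ≠ 0 := by simpa [c0] using p0
  have n : φ.σ c * c ∈ K := (h.fix _).2 (by simp [mul_comm])
  obtain ⟨d, hd⟩ := h.rat.exists_add_mem (v := c • k.1 f) e q1 fun x hx h1 => by
    have := h.pt1 hE (M.inv_mem hk) e q1 q0 (inv_ne_zero c0) (by
      rwa [map_smul, Isom.inv_apply_apply, inv_smul_smul₀ c0]) hx h1
    convert K.mul_mem n (h.rat.B_mem _ hf _ this) using 1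
    rw [← Isom.B_map k f, map_smul k.1, Isom.apply_inv_apply, B_smul_left, B_smul_right]
    field_simp
  have dk : (d + φ.σ d) / 2 ∈ K := (h.fix _).2 (by simp [map_ofNat, add_comm])
  have T : φ.T ((φ.σ d - d) / 2 / (φ.σ c * c)) = φ.Q 0 := by
    simp only [h.herm.T_eq, map_div₀, map_sub, map_mul, σ_σ, map_ofNat, Q_zero]
    field_simp
    ring
  have all : ∀ j : φ.Isom, (∀ u ∈ L, φ.B p u = 0 → c • j.1 u ∈ L) → c • j.1 f ∈ L → ∀ x ∈ L, c • j.1 x ∈ L :=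
    fun j j1 j2 x hx => by
      have i := h.rat.B_mem _ hp _ hx
      convert add_mem (j1 _ (sub_mem hx (RatS.smul_mem i hf)) (by simp [hyp.Bef])) (RatS.smul_mem i j2) using 1
      simp only [map_sub, map_smul]; module
  have f1 : c • k.1 f - ((φ.σ d - d) / 2) • c • k.1 p ∈ L := by
    convert sub_mem hd (RatS.smul_mem dk e) using 1
    match_scalars <;> field_simp <;> ring
  have m := h.mem (φ.siegel (c • k.1 p) 0 ((φ.σ d - d) / 2 / (φ.σ c * c)) * k)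
    (mul_mem (φ.mem_SIsom.2 (φ.det_siegel q1 (map_zero _) T)) (h.le hk)) c c0 (all _ (fun u hu h1 => by
      rw [Isom.mul_apply, siegel_apply_of_orth q1 (map_zero _) T (by simp [h1]) (by simp)]
      exact h.pt1 hE hk hp hQ p0 c0 e hu h1) (by
      rw [Isom.mul_apply, h.sg q1 (map_zero _) T]
      convert f1 using 1
      simp only [B_smul_left, Isom.B_map, hyp.Bef, map_zero, LinearMap.zero_apply]
      match_scalars <;> field_simp <;> ring))
  have z := h.hZ hE e q1 q0 (by simpa using T) (by simpa using M.mul_mem m (M.inv_mem hk))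
  rw [div_eq_zero_iff, or_iff_left (mul_ne_zero s0 c0)] at z
  exact all k (fun u hu h1 => h.pt1 hE hk hp hQ p0 c0 e hu h1) (by simpa [z] using f1)

end R4

end H22.Su
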