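import Cfsg.Agent.H22.Su48a

/-!
# The orthogonal subfield subgroups of `SU₄(q)`, `q ≥ 5` odd, are maximal
-/

set_option autoImplicit false

namespace H22.Su

open Module H10 H10.Form

variable {F V : Type*} [Field F] [AddCommGroup V] [Module F V] {φ : Form F V}
  [φ.Nondeg] [FiniteDimensional F V] [Finite F]

namespace R4
variable {K : Subfield F} {L : Submodule K V} {M : Subgroup φ.Isom} {θ : F} (h : R4 φ K L M θ)
  {p u w z y a b f : V} {s c t : F} {g k : φ.Isom}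
include h

omit [Finite F] in
theorem exB (u0 : u ≠ 0) : ∃ x ∈ L, φ.B u x ≠ 0 := by
  by_contra! q
  exact u0 (φ.eq_zero_of_B_left (h.rat.B_eq_zero q))

theorem two' (u0 : u ≠ 0) (li : ∀ κ : F, w ≠ κ • u) (R : ∀ x ∈ L, φ.σ (φ.B u x) * φ.B w x ∈ K) :
    ∃ d : F, d ≠ 0 ∧ d • u ∈ L ∧ d • w ∈ L := by
  obtain ⟨x1, h1, a1⟩ := h.exB u0
  have s1 : φ.σ (φ.B u x1) ≠ 0 := by simpa using a1
  obtain ⟨κ, k1, k2⟩ : ∃ κ, φ.σ κ = κ ∧ φ.B w x1 = κ * φ.B u x1 := ⟨φ.B w x1 / φ.B u x1, by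
    have := (h.fix _).1 (R x1 h1)
    rw [map_mul, σ_σ] at this
    rw [map_div₀, div_eq_div_iff s1 a1]
    linear_combination this, by field_simp⟩
  have C : ∀ x ∈ L, φ.B w x ≠ κ * φ.B u x →
      φ.σ (φ.B u x1) * φ.B u x ∈ K ∧ φ.σ (φ.B u x1) * φ.B w x ∈ K := fun x hx q => by
    have r0 := (h.fix _).1 (R x hx)
    have r1 := (h.fix _).1 (R _ (add_mem h1 hx))
    simp only [map_add, map_mul, σ_σ, k2, k1] at r0 r1
    have e : φ.B u x1 * φ.σ (φ.B u x) = φ.σ (φ.B u x1) * φ.B u x :=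
      mul_left_cancel₀ (mul_ne_zero s1 (sub_ne_zero.2 q)) (by
        linear_combination (φ.σ (φ.B u x1) * φ.B u x) * (r1 - r0) - (φ.B u x1 * φ.σ (φ.B u x1)) * r0)
    simp only [h.fix, map_mul, σ_σ]
    exact ⟨e, by linear_combination r1 - r0 + κ * e⟩
  obtain ⟨x0, h0, a0⟩ := h.exB (sub_ne_zero.2 (li κ))
  replace a0 : φ.B w x0 ≠ κ * φ.B u x0 := fun q => a0 (by simp [k1, q])
  have D : ∀ x ∈ L, φ.σ (φ.B u x1) * φ.B u x ∈ K ∧ φ.σ (φ.B u x1) * φ.B w x ∈ K := fun x hx => by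
    by_cases q : φ.B w x = κ * φ.B u x
    · have i := C _ (add_mem hx h0) fun r => a0 (by simpa [q, mul_add] using r)
      have j := C _ h0 a0
      exact ⟨by simpa [mul_add] using K.sub_mem i.1 j.1, by simpa [mul_add] using K.sub_mem i.2 j.2⟩
    · exact C x hx q
  exact ⟨_, a1, h.rat.mem_of_B fun x hx => by simpa using (D x hx).1, h.rat.mem_of_B fun x hx => by simpa using (D x hx).2⟩

theorem tern (hu : u ∈ L) (hw : w ∈ L) (hz : z ∈ L) (u0 : φ.B u u ≠ 0) (w0 : φ.B w w ≠ 0) (z0 : z ≠ 0)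
    (uw : φ.B u w = 0) (uz : φ.B u z = 0) (wz : φ.B w z = 0) :
    ∃ α ∈ K, ∃ β ∈ K, ∃ γ ∈ K, α • u + β • w + γ • z ≠ 0 ∧ φ.Q (α • u + β • w + γ • z) = 0 := by
  obtain ⟨α, β, γ, n, e⟩ := exists_ternary_zero (F := K) ⟨_, h.rat.B_mem _ hu _ hu⟩ ⟨_, h.rat.B_mem _ hw _ hw⟩
    ⟨_, h.rat.B_mem _ hz _ hz⟩ 0 0 0
  have wu := φ.B_symm_zero uw
  refine ⟨α, α.2, β, β.2, γ, γ.2, fun q => n ?_, ?_⟩
  · have a : (α : F) = 0 := by simpa [uw, uz, u0] using congrArg (φ.B u) q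
    have b : (β : F) = 0 := by simpa [wu, wz, w0] using congrArg (φ.B w) q
    exact ⟨Subtype.ext a, Subtype.ext b, Subtype.ext (by simpa [a, b, z0] using q)⟩
  · replace e := congrArg Subtype.val e
    simp [h.herm.Q_eq, uw, uz, wz, wu, φ.B_symm_zero uz, φ.B_symm_zero wz, (h.fix _).1 α.2, (h.fix _).1 β.2,
      (h.fix _).1 γ.2] at e ⊢
    linear_combination e

variable (hE : ¬ φ.E ≤ M) (hg : g ∈ M) (H : ¬ ∃ c : F, c ≠ 0 ∧ ∀ x ∈ L, c • g.1 x ∈ L)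
include hE hg H

theorem nr (hp : p ∈ L) (hQ : φ.Q p = 0) (p0 : p ≠ 0) (c0 : c ≠ 0) : c • g.1 p ∉ L :=
  fun e => H ⟨c, c0, h.pt hE hg hp hQ p0 c0 e⟩

omit H in
theorem kp (hy : y ∈ L) (hQ : φ.Q y = 0) (y0 : y ≠ 0) (e : y = g.1 (a + θ • b)) (hk : k ∈ M) (k1 : k.1 a = a)
    (k2 : k.1 b = b) (x : V) (hx : g.1 x ∈ L) : g.1 (k.1 x) ∈ L := by
  have := h.pt hE (M.mul_mem (M.mul_mem hg hk) (M.inv_mem hg)) hy hQ y0 one_ne_zero (by
    rw [one_smul, Isom.mul_apply, Isom.mul_apply, e, Isom.inv_apply_apply, map_add k.1, map_smul k.1, k1, k2, ← e]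
    exact hy) _ hx
  rwa [one_smul, Isom.mul_apply, Isom.mul_apply, Isom.inv_apply_apply] at this

theorem gram (hy : y ∈ L) (hQ : φ.Q y = 0) (y0 : y ≠ 0) (ha : a ∈ L) (hb : b ∈ L) (e : y = g.1 (a + θ • b)) :
    φ.B a a * φ.B b b - φ.B a b * φ.B a b ≠ 0 := fun d => by
  have m := h.rat.B_mem
  have q : φ.B a a = θ * θ * φ.B b b := by
    rw [e, Isom.Q_map, h.herm.Q_eq] at hQ
    simp only [map_add, LinearMap.add_apply, B_smul_left, B_smul_right, h.θσ, h.comm hb ha] at hQ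
    linear_combination hQ
  obtain ⟨ab, bb⟩ : φ.B a b = 0 ∧ φ.B b b = 0 := by
    rcases mul_eq_zero.1 (show (φ.B a b + θ * φ.B b b) * (-φ.B a b + θ * φ.B b b) = 0 by
      linear_combination d - φ.B b b * q) with r | r
    · exact h.z2 (m _ ha _ hb) (m _ hb _ hb) r
    · simpa using h.z2 (K.neg_mem (m _ ha _ hb)) (m _ hb _ hb) r
  have aa : φ.B a a = 0 := by rw [q, bb, mul_zero]
  have qa : φ.Q a = 0 := (h.herm.Q_eq a).trans aa
  have qb : φ.Q b = 0 := (h.herm.Q_eq b).trans bb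
  have ba := φ.B_symm_zero ab
  by_cases a0 : a = 0
  · exact h.nr hE hg H hb qb (fun r => y0 (by simp [e, a0, r])) h.θ0 (by simpa [e, a0] using hy)
  obtain ⟨x, hx, x1⟩ := h.exB (u := g.1 a) (by simpa using a0)
  obtain ⟨x, rfl⟩ := g.1.surjective x
  rw [Isom.B_map] at x1
  have T : φ.T 0 = φ.Q b := by simp [qb]
  have i := h.kp hE hg hy hQ y0 e (h.sgm0 ha hb K.zero_mem qa ab T) (siegel_apply_self qa ab T)
    (siegel_apply_of_orth qa ab T ab bb) x hx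
  have j := (h.fix _).1 (m _ hx _ i)
  rw [Isom.B_map, h.sg qa ab T] at j
  simp only [map_add, map_sub, map_smul, smul_eq_mul, map_mul, h.herm.σ_B, zero_mul, zero_smul, map_zero] at j
  have s1 : φ.B x a ≠ 0 := fun r => x1 (φ.B_symm_zero r)
  have κ : φ.B b x / φ.B a x ∈ K := (h.fix _).2 (by
    rw [map_div₀, h.herm.σ_B, h.herm.σ_B, div_eq_div_iff s1 x1]
    exact mul_left_cancel₀ h.two (by linear_combination j))
  by_cases r : (φ.B b x / φ.B a x) • a - b = 0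
  · rw [← sub_eq_zero.1 r, smul_smul, ← one_smul F a, smul_smul, ← add_smul, map_smul] at e
    exact h.nr hE hg H ha qa a0 (fun r => y0 (by rw [e, r, zero_smul])) (e ▸ hy)
  · refine h.nr hE hg H (sub_mem (RatS.smul_mem κ ha) hb) (by simp [h.herm.Q_eq, aa, ab, ba, bb]) r x1 ?_
    convert sub_mem i hx using 1
    rw [h.sg qa ab T, ← map_smul, ← map_sub]
    congr 1
    match_scalars <;> field_simp <;> ring

omit H in
theorem sc (hy : y ∈ L) (hQ : φ.Q y = 0) (y0 : y ≠ 0) (e : y = g.1 (a + θ • b)) (hu : u ∈ L) (hw : w ∈ L)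
    (au : φ.B a u = 0) (bu : φ.B b u = 0) (aw : φ.B a w = 0) (bw : φ.B b w = 0) (uw : φ.B u w = 0) (u0 : φ.B u u ≠ 0)
    (w0 : φ.B w w ≠ 0) : ∃ d : F, d ≠ 0 ∧ d • g.1 u ∈ L ∧ d • g.1 w ∈ L := by
  have wu := φ.B_symm_zero uw
  obtain ⟨l, hl, l0, l1⟩ : ∃ l ∈ K, l ≠ 0 ∧ φ.B u u + l * l * φ.B w w ≠ 0 := by
    obtain ⟨t, ht, t0, t1⟩ := h.big
    by_contra! q
    exact w0 ((mul_eq_zero.1 (show (t * t - 1) * φ.B w w = 0 by
      linear_combination q t ht t0 - q 1 K.one_mem one_ne_zero)).resolve_left (sub_ne_zero.2 t1))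
  have sl := (h.fix l).1 hl
  have zz : φ.B (u + l • w) (u + l • w) = φ.B u u + l * l * φ.B w w := by simp [uw, wu, sl, mul_assoc]
  obtain ⟨k, hk, q⟩ := h.rr hu (add_mem hu (RatS.smul_mem hl hw)) u0 (zz ▸ l1)
  refine h.two' (fun r => u0 (by simp [g.1.map_eq_zero_iff.1 r])) (fun κ r => w0 ?_) fun x hx => ?_
  · rw [← map_smul] at r
    simpa [wu] using congrArg (φ.B w) (g.1.injective r)
  obtain ⟨x, rfl⟩ := g.1.surjective x
  have i := h.kp hE hg hy hQ y0 e hk (by simp [q, φ.B_symm_zero au, φ.B_symm_zero aw])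
    (by simp [q, φ.B_symm_zero bu, φ.B_symm_zero bw]) x hx
  have j := (h.fix _).1 (h.rat.B_mem _ hx _ i)
  rw [Isom.B_map, q, zz] at j
  simp only [map_add, map_sub, B_smul_left, B_smul_right, LinearMap.add_apply, map_mul, map_div₀, map_ofNat,
    h.herm.σ_B, sl, uw, mul_zero, add_zero] at j
  rw [h.fix, Isom.B_map, Isom.B_map, map_mul, σ_σ, h.herm.σ_B, h.herm.σ_B]
  have h2 := h.two
  field_simp at j
  exact mul_left_cancel₀ (mul_ne_zero (mul_ne_zero (mul_ne_zero h2 h2) (mul_ne_zero l0 u0)) (inv_ne_zero l1))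
    (by linear_combination j)

omit H in
theorem fin (hy : y ∈ L) (hQ : φ.Q y = 0) (y0 : y ≠ 0) : ∃ c : F, c ≠ 0 ∧ ∀ x ∈ L, c • g.1 x ∈ L := by
  by_contra H
  have m := h.rat.B_mem
  have h2 := h.two
  have S : ∀ y ∈ L, φ.Q y = 0 → y ≠ 0 → ∃ a ∈ L, ∃ b ∈ L, y = g.1 (a + θ • b) := fun y _ _ _ => by
    obtain ⟨a, ha, b, hb, e⟩ := h.dec ((g⁻¹).1 y)
    exact ⟨a, ha, b, hb, by rw [← e, Isom.apply_inv_apply]⟩
  obtain ⟨a, ha, b, hb, e⟩ := S y hy hQ y0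
  obtain ⟨u, hu, w, hw, au, bu, aw, bw, uw, u0, w0, -⟩ := h.pl ha hb (h.gram hE hg H hy hQ y0 ha hb e)
  obtain ⟨d, d0, du, dw⟩ := h.sc hE hg hy hQ y0 e hu hw au bu aw bw uw u0 w0
  have s0 : φ.σ d ≠ 0 := by simpa using d0
  have wu := φ.B_symm_zero uw
  obtain ⟨f0, hf0, hyp0⟩ := h.rat.exists_partner hy hQ y0
  have yu : φ.B y (g.1 u) = 0 := by rw [e, Isom.B_map]; simp [au, bu]
  have yw : φ.B y (g.1 w) = 0 := by rw [e, Isom.B_map]; simp [aw, bw]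
  have i1 := sub_mem (sub_mem hf0 (RatS.smul_mem (K.div_mem (m _ du _ hf0) (m _ du _ du)) du))
    (RatS.smul_mem (K.div_mem (m _ dw _ hf0) (m _ dw _ dw)) dw)
  obtain ⟨c, hc, hyp⟩ := h.rat.isHyp_of_B hy i1 hQ (by simp [hyp0.Bef, yu, yw])
  have i2 := add_mem i1 (RatS.smul_mem hc hy)
  have uf : φ.B (g.1 u) _ = 0 := show φ.B (g.1 u) (f0 - (φ.B (d • g.1 u) f0 / φ.B (d • g.1 u) (d • g.1 u)) • d • g.1 u -
      (φ.B (d • g.1 w) f0 / φ.B (d • g.1 w) (d • g.1 w)) • d • g.1 w + c • y) = 0 by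
    simp only [map_add, map_sub, B_smul_left, B_smul_right, Isom.B_map, uw, φ.B_symm_zero yu]
    field_simp
    ring
  have wf : φ.B (g.1 w) _ = 0 := show φ.B (g.1 w) (f0 - (φ.B (d • g.1 u) f0 / φ.B (d • g.1 u) (d • g.1 u)) • d • g.1 u -
      (φ.B (d • g.1 w) f0 / φ.B (d • g.1 w) (d • g.1 w)) • d • g.1 w + c • y) = 0 by
    simp only [map_add, map_sub, B_smul_left, B_smul_right, Isom.B_map, wu, φ.B_symm_zero yw]
    field_simp
    ring
  generalize f0 - _ - _ + c • y = f at hyp i2 uf wf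
  obtain ⟨k1, k2⟩ := h.half dw
  have hy2 := add_mem (add_mem hy (RatS.smul_mem (K.neg_mem k1) i2)) dw
  have q2 : φ.Q (y + -(φ.Q (d • g.1 w) / 2) • f + d • g.1 w) = 0 := by
    simpa [k2] using hyp.Q_comb 1 (-(φ.Q (d • g.1 w) / 2)) (φ.mem_perp_pair.2
      ⟨show φ.B y (d • g.1 w) = 0 by simp [yw], by simp [φ.B_symm_zero wf]⟩)
  have wy : φ.B (g.1 w) (y + -(φ.Q (d • g.1 w) / 2) • f + d • g.1 w) ≠ 0 := by simp [φ.B_symm_zero yw, wf, d0, w0]
  have uy : φ.B (g.1 u) (y + -(φ.Q (d • g.1 w) / 2) • f + d • g.1 w) = 0 := by simp [φ.B_symm_zero yu, uf, uw]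
  generalize y + _ + d • g.1 w = y2 at hy2 q2 wy uy
  have y20 : y2 ≠ 0 := fun r => wy (by simp [r])
  obtain ⟨a2, ha2, b2, hb2, e2⟩ := S y2 hy2 q2 y20
  obtain ⟨u2, hu2, w2, hw2, au2, bu2, aw2, bw2, uw2, u20, w20, sp⟩ := h.pl ha2 hb2 (h.gram hE hg H hy2 q2 y20 ha2 hb2 e2)
  obtain ⟨d2, d20, du2, dw2⟩ := h.sc hE hg hy2 q2 y20 e2 hu2 hw2 au2 bu2 aw2 bw2 uw2 u20 w20
  rw [e2, Isom.B_map, map_add, map_smul, smul_eq_mul] at uy wy
  obtain ⟨t1, t2⟩ := h.z2 (m _ hu _ ha2) (m _ hu _ hb2) uy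
  obtain ⟨α, hα, β, hβ, eu⟩ := sp u hu (φ.B_symm_zero t1) (φ.B_symm_zero t2)
  have wu2 := φ.B_symm_zero uw2
  have j1 : d2 • g.1 u ∈ L := by
    convert add_mem (RatS.smul_mem hα du2) (RatS.smul_mem hβ dw2) using 1
    rw [eu, map_add, map_smul, map_smul]; module
  have j2 : d / d2 ∈ K := by
    convert K.div_mem (m _ du _ du) (m _ du _ j1) using 1
    simp only [B_smul_left, B_smul_right, Isom.B_map]
    field_simp
  have c1 := K.mul_mem hβ (m _ hw2 _ hw2)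
  have c2 := K.mul_mem hα (m _ hu2 _ hu2)
  have hz := sub_mem (RatS.smul_mem c1 hu2) (RatS.smul_mem c2 hw2)
  have uz : φ.B u ((β * φ.B w2 w2) • u2 - (α * φ.B u2 u2) • w2) = 0 := by
    rw [eu]; simp [uw2, wu2, (h.fix _).1 hα, (h.fix _).1 hβ]; ring
  have dz : d • g.1 ((β * φ.B w2 w2) • u2 - (α * φ.B u2 u2) • w2) ∈ L := by
    convert RatS.smul_mem j2 (sub_mem (RatS.smul_mem c1 du2) (RatS.smul_mem c2 dw2)) using 1
    rw [map_sub, map_smul, map_smul]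
    match_scalars <;> field_simp
  have az : φ.B ((β * φ.B w2 w2) • u2 - (α * φ.B u2 u2) • w2) a2 = 0 := φ.B_symm_zero (by simp [au2, aw2])
  have bz : φ.B ((β * φ.B w2 w2) • u2 - (α * φ.B u2 u2) • w2) b2 = 0 := φ.B_symm_zero (by simp [bu2, bw2])
  have z0 : (β * φ.B w2 w2) • u2 - (α * φ.B u2 u2) • w2 ≠ 0 := fun r => by
    have r1 : β = 0 := by simpa [uw2, u20, w20] using congrArg (φ.B u2) r
    have r2 : α = 0 := by simpa [wu2, u20, w20] using congrArg (φ.B w2) r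
    simp [eu, r1, r2] at u0
  generalize (β * φ.B w2 w2) • u2 - (α * φ.B u2 u2) • w2 = z at hz uz dz az bz z0
  have c3 := K.div_mem (m _ hw _ hz) (m _ hw _ hw)
  obtain ⟨x1, h1, x2, h3, x3, h4, v0, vq⟩ := h.tern hu hw (sub_mem hz (RatS.smul_mem c3 hw)) u0 w0 (fun r => by
    rw [sub_eq_zero] at r
    rw [r, B_smul_left] at az bz
    rcases eq_or_ne (φ.σ (φ.B w z / φ.B w w)) 0 with o | o
    · exact z0 (by rw [r, (map_eq_zero φ.σ).1 o, zero_smul])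
    · exact wy (by rw [(mul_eq_zero.1 az).resolve_left o, (mul_eq_zero.1 bz).resolve_left o, mul_zero, add_zero]))
    uw (by simp [uz, uw]) (by simp [w0])
  refine h.nr hE hg H (add_mem (add_mem (RatS.smul_mem h1 hu) (RatS.smul_mem h3 hw))
    (RatS.smul_mem h4 (sub_mem hz (RatS.smul_mem c3 hw)))) vq v0 d0 ?_
  convert add_mem (add_mem (RatS.smul_mem h1 du) (RatS.smul_mem h3 dw))
    (RatS.smul_mem h4 (sub_mem dz (RatS.smul_mem c3 dw))) using 1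
  simp only [map_add, map_sub, map_smul]
  module

end R4

open Matrix Cfsg Cfsg.Geo in
theorem su4_8 {F : Type*} [Field F] [Fintype F] {q : ℕ} (hF : Fintype.card F = q ^ 2) :
    (Odd q → 5 ≤ q → ∀ (F₀ : Subfield F) (P : Matrix.GeneralLinearGroup (Fin 4) F), Fintype.card F = Nat.card F₀ ^ 2 → Cfsg.Geo.IsFormRationalStructure (Cfsg.hermForm 4 F q) F₀ 1 P → Cfsg.Geo.IsMaximalIn (Cfsg.GU 4 F q ⊓ Cfsg.Geo.specialLinear (Fin 4) F) (Cfsg.Geo.subfieldSubgroup F₀ P ⊓ (Cfsg.GU 4 F q ⊓ Cfsg.Geo.specialLinear (Fin 4) F))) := by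
  intro hodd hq F₀ P hcard hP
  have hF' : Nat.card F = q ^ 2 := by rw [Nat.card_eq_fintype_card, hF]
  have h0 := H10.stdU_isUnitary hF' 4
  have hK := H10.finrank_eq_of_card hcard
  have hq' := Nat.pow_left_injective two_ne_zero (hF.symm.trans hcard)
  have h1 : ∀ a ∈ F₀, (H10.stdU hF' 4).σ a = a := fun a ha => by
    have := Fintype.ofFinite F₀
    rw [h0.σ_eq, hq', Nat.card_eq_fintype_card]
    exact congrArg Subtype.val (FiniteField.pow_card (⟨a, ha⟩ : F₀))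
  have h2 : (2 : F) ≠ 0 := H10.two_ne_zero_of_odd_card (hF ▸ hodd.pow)
  have h3 : ∀ a, a ∈ F₀ ↔ (H10.stdU hF' 4).σ a = a := fun a => ⟨h1 a, fun ha => by
    have := Subalgebra.isSimpleOrder_of_finrank_prime F₀ F (hK ▸ Nat.prime_two)
    let A : Subalgebra F₀ F :=
      { (H10.stdU hF' 4).σ.eqLocus (RingHom.id F) with algebraMap_mem' := fun a => h1 a a.2 }
    rcases eq_bot_or_eq_top A with h3 | h3
    · obtain ⟨b, rfl⟩ := Algebra.mem_bot.1 (h3.le ha)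
      exact b.2
    · obtain ⟨b, hb⟩ := h0.exists_σ_ne
      exact absurd (h3.ge Algebra.mem_top) hb⟩
  have h4 : (H10.stdU hF' 4).RatS F₀ (H10.ratL F₀ P) :=
    H10.ratS_of (fun a ha => (h1 a ha).symm ▸ ha)
      (fun u v hu hv => by simpa [H10.stdU_B] using hP v u hv hu)
      (fun u hu => by simpa [H10.stdU_Q] using hP u u hu hu)
      (fun a ha => by rw [h0.herm.T_eq, h1 a ha]; exact F₀.add_mem ha ha) fun x _ hx => by
        have := F₀.div_mem hx (F₀.add_mem F₀.one_mem F₀.one_mem)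
        refine ⟨_, this, ?_⟩
        rw [h0.herm.T_eq, h1 _ this, one_add_one_eq_two]; field_simp; ring
  obtain ⟨p, hp, p0, hQ⟩ : ∃ p ∈ H10.ratL F₀ P, p ≠ 0 ∧ (H10.stdU hF' 4).Q p = 0 := by
    obtain ⟨v, -, h9, h10⟩ := (H10.Form.isQuad_ofQuad (LinearMap.BilinMap.toQuadraticMap
      (LinearMap.mk₂ F₀ (fun x y => h4.form.B x y) (by simp) (fun c x y => Subtype.ext (by
        simp [h1 c c.2])) (by simp) (by simp)))).exists_singular (W := ⊤) (by simp [h4.rank])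
    exact ⟨v, v.2, fun e => h9 (Subtype.ext e), (h0.herm.Q_eq _).trans (congrArg Subtype.val h10)⟩
  have big : ∃ t ∈ F₀, t ≠ 0 ∧ t * t ≠ 1 := by
    by_contra! r
    have : (Set.univ : Set F₀) ⊆ {0, 1, -1} := fun t _ => by
      by_cases t0 : (t : F) = 0
      · exact .inl (Subtype.ext t0)
      · exact .inr ((mul_self_eq_one_iff.1 (r t t.2 t0)).imp (fun e => Subtype.ext e) fun e => Subtype.ext e)
    have := (Set.ncard_le_ncard this).trans ((Set.ncard_insert_le _ _).trans (Nat.succ_le_succ (Set.ncard_insert_le _ _)))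
    rw [Set.ncard_univ, Set.ncard_singleton] at this
    omega
  obtain ⟨θ, θ0, θ1⟩ := h0.exists_skew
  have θ2 : (H10.stdU hF' 4).σ θ = -θ := by rw [h0.herm.T_eq] at θ1; exact eq_neg_of_add_eq_zero_right θ1
  rw [H10.SU_eq_E hF' (by omega)]
  have hS := h0.E_eq_SIsom (by simp)
  set φ := H10.stdU hF' 4
  refine isMaximalIn_map _ (fun h6 => ?_) fun M hM g hg hg1 hg' => ?_
  · have t : R4 φ F₀ (H10.ratL F₀ P) φ.SIsom θ := ⟨h4, by simp, h0.herm, h2, h3, θ0, θ2, big, le_rfl, fun _ a _ _ _ => a⟩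
    obtain ⟨f, hf, hyp⟩ := h4.exists_partner hp hQ p0
    have q3 : φ.T θ = φ.Q 0 := by simpa using θ1
    obtain ⟨d, hd, h7⟩ := mem_subfieldSubgroup_iff.1 (h6 (φ.siegel_mem_E (p := p) hyp.Qe (by simp) q3))
    simp only [toGL_mulVec] at h7
    have h8 := h4.B_mem _ hf _ (h7 p hp)
    have h9 := h4.B_mem _ hf _ (h7 f hf)
    rw [Form.siegel_apply_self hyp.Qe (by simp) q3] at h8
    rw [t.sg hyp.Qe (by simp) q3] at h9
    simp [hyp.Bef, hyp.Bfe, hyp.Bff, h0.herm.ε_eq] at h8 h9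
    exact θ0 (t.skew0 (Form.mem_of_mul_mem h9 h8 hd) θ2)
  · by_contra hE
    refine hg' (mem_subfieldSubgroup_iff.2 ?_)
    have t : R4 φ F₀ (H10.ratL F₀ P) (M ⊓ φ.SIsom) θ := ⟨h4, by simp, h0.herm, h2, h3, θ0, θ2, big, inf_le_right,
      fun k a c c0 e => ⟨hM ⟨hS.ge a, mem_subfieldSubgroup_iff.2 ⟨c, c0, by simpa only [toGL_mulVec] using e⟩⟩, a⟩⟩
    simpa only [toGL_mulVec] using t.fin (fun e => hE (e.trans inf_le_left)) ⟨hg, hS.le hg1⟩ hp hQ p0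

end H22.Su
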