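import Cfsg.Agent.H05.Tu0

/-! Part O of the interface `H05.Tu`: `SO₃ = PSL₂` over an algebraically closed field. -/

set_option autoImplicit false

open Module Matrix

namespace H22.TuO

universe u

variable {F : Type} [Field F]

/-- the Gram matrix of the trace form -/
def J (F : Type) [Field F] : Matrix (Fin 3) (Fin 3) F := !![0, 0, 1; 0, 2, 0; 1, 0, 0]

/-- the adjoint representation -/
def Ad (g : SpecialLinearGroup (Fin 2) F) : Matrix (Fin 3) (Fin 3) F :=
  !![g 0 0 ^ 2, -2 * g 0 0 * g 0 1, -g 0 1 ^ 2;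
     -(g 0 0 * g 1 0), g 0 0 * g 1 1 + g 0 1 * g 1 0, g 0 1 * g 1 1;
     -g 1 0 ^ 2, 2 * g 1 0 * g 1 1, g 1 1 ^ 2]

theorem ad_mul (g h : SpecialLinearGroup (Fin 2) F) : Ad (g * h) = Ad g * Ad h := by
  have e : ∀ i j, (g * h) i j = g i 0 * h 0 j + g i 1 * h 1 j := by
    intro i j
    change (g.1 * h.1) i j = _
    simp [Matrix.mul_apply, Fin.sum_univ_two]
  ext i j
  fin_cases i <;> fin_cases j <;> simp [Ad, e, Matrix.mul_apply, Fin.sum_univ_three] <;> ring

theorem det2 (g : SpecialLinearGroup (Fin 2) F) : g 0 0 * g 1 1 - g 0 1 * g 1 0 = 1 := by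
  have := g.2
  rwa [Matrix.det_fin_two] at this

theorem ad_one : Ad (1 : SpecialLinearGroup (Fin 2) F) = 1 := by
  have e : ∀ i j, (1 : SpecialLinearGroup (Fin 2) F) i j = (1 : Matrix (Fin 2) (Fin 2) F) i j := fun _ _ => rfl
  ext i j
  fin_cases i <;> fin_cases j <;> simp [Ad, e]

theorem ad_eq_one (g : SpecialLinearGroup (Fin 2) F) :
    Ad g = 1 ↔ g ∈ Subgroup.center (SpecialLinearGroup (Fin 2) F) := by
  have hd := det2 g
  constructor
  · intro h
    have h00 := congrFun (congrFun h 0) 0
    have h02 := congrFun (congrFun h 0) 2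
    have h20 := congrFun (congrFun h 2) 0
    simp [Ad] at h00 h02 h20
    have ha : g 0 0 ^ 2 = 1 := by
      rcases h00 with h00 | h00 <;> rw [h00] <;> ring
    have hdd : g 1 1 = g 0 0 := by
      rw [h02] at hd
      linear_combination (g 0 0) * hd - (g 1 1) * ha
    rw [Matrix.SpecialLinearGroup.mem_center_iff]
    refine ⟨g 0 0, by simpa using ha, ?_⟩
    ext i j
    fin_cases i <;> fin_cases j <;> simp [h02, h20, hdd]
  · intro h
    rw [Matrix.SpecialLinearGroup.mem_center_iff] at h
    obtain ⟨r, hr, h⟩ := h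
    have e : ∀ i j, g i j = (Matrix.scalar (Fin 2) r) i j := by
      intro i j
      rw [h]
    have hr' : r ^ 2 = 1 := by simpa using hr
    have hr'' : r * r = 1 := by rw [← sq]; exact hr'
    ext i j
    fin_cases i <;> fin_cases j <;> simp [Ad, e, hr', hr'']

theorem iso2 [IsAlgClosed F] (s t m : F) (h : m ^ 2 = s * t) : ∃ a c : F, a ^ 2 = s ∧ c ^ 2 = t ∧ a * c = m := by
  obtain ⟨a, ha⟩ := IsAlgClosed.exists_pow_nat_eq s (n := 2) (by norm_num)
  obtain ⟨c, hc⟩ := IsAlgClosed.exists_pow_nat_eq t (n := 2) (by norm_num)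
  have : (a * c - m) * (a * c + m) = 0 := by
    linear_combination c ^ 2 * ha + s * hc - h
  rcases mul_eq_zero.1 this with h1 | h1
  · exact ⟨a, c, ha, hc, by linear_combination h1⟩
  · exact ⟨a, -c, ha, by linear_combination hc, by linear_combination -h1⟩

theorem ad_surj [IsAlgClosed F] (h2 : (2 : F) ≠ 0) (M : Matrix (Fin 3) (Fin 3) F) (hM : Mᵀ * J F * M = J F)
    (hd : M.det = 1) : ∃ g, Ad g = M := by
  have hadj : Mᵀ * J F = J F * M.adjugate := by
    have : M * M.adjugate = 1 := by rw [Matrix.mul_adjugate, hd, one_smul]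
    calc Mᵀ * J F = Mᵀ * J F * (M * M.adjugate) := by rw [this, mul_one]
      _ = J F * M.adjugate := by rw [← mul_assoc, hM]
  have a0 := congrFun (congrFun hadj 1) 0
  have a1 := congrFun (congrFun hadj 1) 1
  have a2 := congrFun (congrFun hadj 1) 2
  have b00 := congrFun (congrFun hM 0) 0
  have b02 := congrFun (congrFun hM 0) 2
  have b22 := congrFun (congrFun hM 2) 2
  simp only [J, Matrix.mul_apply, Fin.sum_univ_three, Matrix.adjugate_fin_three, Matrix.transpose_apply,
    Matrix.of_apply, Matrix.cons_val', Matrix.cons_val_zero, Matrix.cons_val_one, Matrix.cons_val_two,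
    Matrix.cons_val_fin_one, Matrix.head_cons, Matrix.tail_cons, Matrix.head_fin_const, Matrix.vecHead, Matrix.vecTail,
    Matrix.empty_val', Function.comp, Fin.succ_zero_eq_one, Fin.succ_one_eq_two] at a0 a1 a2 b00 b02 b22
  obtain ⟨a, c, ha, hc, hac⟩ := iso2 (M 0 0) (-M 2 0) (-M 1 0) (by
    apply mul_left_cancel₀ h2
    linear_combination b00)
  have key : ∃ b d : F, b ^ 2 = -M 0 2 ∧ d ^ 2 = M 2 2 ∧ b * d = M 1 2 ∧ a * d - b * c = 1 := by
    obtain ⟨b, d, hb, hd', hbd⟩ := iso2 (-M 0 2) (M 2 2) (M 1 2) (by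
      apply mul_left_cancel₀ h2
      linear_combination b22)
    have : (a * d - b * c - 1) * (a * d - b * c + 1) = 0 := by
      linear_combination b02 + d ^ 2 * ha + M 0 0 * hd' + c ^ 2 * hb - M 0 2 * hc - 2 * (b * d) * hac
        + 2 * M 1 0 * hbd
    rcases mul_eq_zero.1 this with h1 | h1
    · exact ⟨b, d, hb, hd', hbd, by linear_combination h1⟩
    · exact ⟨-b, -d, by linear_combination hb, by linear_combination hd', by linear_combination hbd,
        by linear_combination -h1⟩
  obtain ⟨b, d, hb, hd', hbd, hdet⟩ := key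
  have e00 : M 0 0 = a ^ 2 := ha.symm
  have e20 : M 2 0 = -c ^ 2 := by linear_combination hc
  have e10 : M 1 0 = -(a * c) := by linear_combination hac
  have e02 : M 0 2 = -b ^ 2 := by linear_combination hb
  have e22 : M 2 2 = d ^ 2 := hd'.symm
  have e12 : M 1 2 = b * d := hbd.symm
  rw [e00, e02, e10, e12] at a2
  rw [e00, e02, e20, e22] at a1
  rw [e10, e12, e20, e22] at a0
  have e01 : M 0 1 = -2 * a * b := by linear_combination a2 - 2 * a * b * hdet
  have e21 : M 2 1 = 2 * c * d := by linear_combination a0 + 2 * c * d * hdet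
  have e11 : M 1 1 = a * d + b * c := by
    apply mul_left_cancel₀ h2
    linear_combination a1 + 2 * (a * d + b * c) * hdet
  refine ⟨⟨!![a, b; c, d], by rw [Matrix.det_fin_two_of]; exact hdet⟩, ?_⟩
  ext i j
  fin_cases i <;> fin_cases j <;> simp [Ad, e00, e01, e02, e10, e11, e12, e20, e21, e22]

theorem basis3 [IsAlgClosed F] (h2 : (2 : F) ≠ 0) {A : Type} [AddCommGroup A] [Module F A] [FiniteDimensional F A]
    (B : LinearMap.BilinForm F A) (h3 : finrank F A = 3) (hs : ∀ u v, B u v = B v u)
    (hn : ∀ u, (∀ v, B u v = 0) → u = 0) : ∃ b : Basis (Fin 3) F A, ∀ i j, B (b i) (b j) = J F i j := by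
  haveI : Invertible (2 : F) := invertibleOfNonzero h2
  obtain ⟨v0, hv0⟩ := LinearMap.BilinForm.exists_orthogonal_basis (B := B) ⟨fun u v => by simpa using hs u v⟩
  let v : Basis (Fin 3) F A := v0.reindex (finCongr h3)
  have hv : ∀ i j, i ≠ j → B (v i) (v j) = 0 := by
    intro i j hij
    simp only [v, Basis.reindex_apply]
    exact hv0 (fun h => hij ((finCongr h3).symm.injective h))
  have hd : ∀ i, B (v i) (v i) ≠ 0 := by
    intro i hi
    refine v.ne_zero i (hn _ fun w => ?_)
    have : B (v i) = 0 := v.ext fun j => by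
      by_cases hij : i = j
      · subst hij; simpa using hi
      · simpa using hv i j hij
    simp [this]
  have hsq : ∀ i (t : F), ∃ s : F, s * s * B (v i) (v i) = t := by
    intro i t
    obtain ⟨s, hs⟩ := IsAlgClosed.exists_pow_nat_eq (t / B (v i) (v i)) (n := 2) (by norm_num)
    exact ⟨s, by rw [← sq, hs, div_mul_cancel₀ _ (hd i)]⟩
  obtain ⟨s0, h0⟩ := hsq 0 (1 / 2)
  obtain ⟨s1, h1⟩ := hsq 1 2
  obtain ⟨s2, h2'⟩ := hsq 2 (-(1 / 2))
  have hh : (1 / 2 : F) + 1 / 2 = 1 := by field_simp; norm_num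
  let w : Fin 3 → A := ![s0 • v 0 + s2 • v 2, s1 • v 1, s0 • v 0 - s2 • v 2]
  have z01 := hv 0 1 (by decide)
  have z02 := hv 0 2 (by decide)
  have z10 := hv 1 0 (by decide)
  have z12 := hv 1 2 (by decide)
  have z20 := hv 2 0 (by decide)
  have z21 := hv 2 1 (by decide)
  have hw : ∀ i j, B (w i) (w j) = J F i j := by
    intro i j
    fin_cases i <;> fin_cases j <;>
      simp only [w, J, Fin.zero_eta, Fin.mk_one, Fin.reduceFinMk, Matrix.cons_val_zero, Matrix.cons_val_one,
        Matrix.cons_val_two, Matrix.head_cons, Matrix.tail_cons, Matrix.of_apply, Matrix.cons_val', Matrix.cons_val,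
        Matrix.cons_val_fin_one, Matrix.empty_val', Matrix.head_fin_const,
        map_add, map_sub, map_smul, LinearMap.add_apply, LinearMap.sub_apply, LinearMap.smul_apply, smul_eq_mul,
        z01, z02, z10, z12, z20, z21] <;>
      first
        | linear_combination h0 + h2'
        | linear_combination h0 - h2' + hh
        | linear_combination h1
        | ring
  have hli : LinearIndependent F w := by
    rw [Fintype.linearIndependent_iff]
    intro c hc
    have e : ∀ j, ∑ i, c i * J F i j = 0 := by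
      intro j
      have := congrArg (fun u => B u (w j)) hc
      simpa [map_sum, LinearMap.sum_apply, hw] using this
    have e0 := e 0
    have e1 := e 1
    have e2 := e 2
    simp [J, Fin.sum_univ_three, h2] at e0 e1 e2
    intro i
    fin_cases i
    · exact e2
    · exact e1
    · exact e0
  refine ⟨basisOfLinearIndependentOfCardEqFinrank hli (by simp [h3]), fun i j => ?_⟩
  rw [coe_basisOfLinearIndependentOfCardEqFinrank]
  exact hw i j

theorem detJ : (J F).det = -2 := by
  simp [J, Matrix.det_fin_three]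

theorem o : H05.Tu.OStmt.{u} := by
  intro G _ _ p _ x hx h5 hO
  obtain ⟨A, _, _, _, τ, B, h3, hs, hn, hinv, hτx, hce⟩ := hO
  have hp : p.Prime := Fact.out
  have h2 : (2 : H05.Tu.K p) ≠ 0 := by
    intro h
    have : ((2 : ℕ) : H05.Tu.K p) = 0 := by exact_mod_cast h
    rw [CharP.cast_eq_zero_iff (H05.Tu.K p) p] at this
    have := Nat.le_of_dvd (by norm_num) this
    omega
  obtain ⟨b, hb⟩ := basis3 h2 B h3 hs hn
  let M : G → Matrix (Fin 3) (Fin 3) (H05.Tu.K p) := fun g => LinearMap.toMatrix b b (τ g)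
  have hB : LinearMap.BilinForm.toMatrix b B = J (H05.Tu.K p) := by
    ext i j
    rw [LinearMap.BilinForm.toMatrix_apply, hb]
  have hM : ∀ g, (M g)ᵀ * J _ * M g = J _ := by
    intro g
    have h1 := LinearMap.BilinForm.toMatrix_comp b b B (τ g) (τ g)
    have h2 : B.comp (τ g) (τ g) = B := by
      ext u v
      simp [hinv]
    rw [h2, hB] at h1
    exact h1.symm
  have hmul : ∀ g h, M (g * h) = M g * M h := by
    intro g h
    simp only [M, map_mul, LinearMap.toMatrix_mul]
  have hone : M 1 = 1 := by simp [M]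
  have hdet : ∀ g, (M g).det * (M g).det = 1 := by
    intro g
    have := congrArg Matrix.det (hM g)
    rw [Matrix.det_mul, Matrix.det_mul, Matrix.det_transpose, detJ] at this
    apply mul_left_cancel₀ h2
    linear_combination -this
  have hex : ∀ g, ∃ s, Ad s = (M g).det • M g := by
    intro g
    refine ad_surj h2 _ ?_ ?_
    · rw [Matrix.transpose_smul, Matrix.smul_mul, Matrix.smul_mul, Matrix.mul_smul, smul_smul, hdet, one_smul, hM]
    · rw [Matrix.det_smul]
      simp only [Fintype.card_fin]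
      linear_combination ((M g).det * (M g).det + 1) * hdet g
  choose s hs' using hex
  have hsm : ∀ g h, Ad (s (g * h)) = Ad (s g * s h) := by
    intro g h
    rw [ad_mul, hs', hs', hs', hmul, Matrix.det_mul, Matrix.smul_mul, Matrix.mul_smul, smul_smul]
  let π : G →* Matrix.ProjectiveSpecialLinearGroup (Fin 2) (H05.Tu.K p) :=
    MonoidHom.mk' (fun g => (QuotientGroup.mk (s g) : _ ⧸ Subgroup.center _)) (by
      intro g h
      change (QuotientGroup.mk (s (g * h)) : _ ⧸ Subgroup.center _) = QuotientGroup.mk (s g * s h)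
      rw [QuotientGroup.eq, ← ad_eq_one, ad_mul, ← hsm, ← ad_mul, inv_mul_cancel, ad_one])
  have hπ : ∀ g, π g = 1 ↔ (M g).det • M g = 1 := by
    intro g
    rw [← hs', ad_eq_one]
    exact QuotientGroup.eq_one_iff _
  refine ⟨π, fun h => hτx ?_, fun z hz => ?_⟩
  · rw [hπ] at h
    have hpow : ∀ n : ℕ, M (x ^ n) = M x ^ n := by
      intro n
      induction n with
      | zero => simpa using hone
      | succ n ih => rw [pow_succ, hmul, ih, pow_succ]
    obtain ⟨k, hk⟩ := hp.odd_of_ne_two (by omega)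
    have hxp : x ^ (2 * k + 1) = 1 := by
      have := pow_orderOf_eq_one x
      rwa [hx.o.trans hk] at this
    have h1 : (M x).det ^ (2 * k + 1) = 1 := by
      rw [← Matrix.det_pow, ← hpow, hxp, hone, Matrix.det_one]
    have h3 : (M x).det = 1 := by
      rw [pow_succ, pow_mul, sq, hdet, one_pow, one_mul] at h1
      exact h1
    rw [h3, one_smul] at h
    apply (LinearMap.toMatrix b b).injective
    change M x = _
    rw [h]
    simp
  · rw [MonoidHom.mem_ker, hπ]
    have : M z = 1 := by simp [M, hce z hz]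
    simp [this]

end H22.TuO
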